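import Cfsg.Agent.Mo.AlgQ
import Cfsg.Agent.Mo.Alg4
import Cfsg.Prelude.Def_Transfer

/-! Part A2: the algebra, its invariance, Miyamoto involutions, the centraliser of `zz`
(the proofs are in `Alg0` to `Alg4` and `AlgQ`). -/
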