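import Cfsg.Agent.H5.LeeK

/-! The 196884-dimensional algebra of Griess in the form of Conway: definitions. -/

set_option autoImplicit false

namespace Cfsg.Agent.Mo

open H5 H5.Lee Matrix Finset

abbrev ι := GolayPt
abbrev κ := Fin 4096

def UT : ℕ := nat_lit 0x80024000a0009000480024000a0005000280024000a00090002800240012000900048002400120009000480024001200090006800040018000a0004000300010000800040002000100008000400020001400080005000200010000a0004000200014000a0005000080002000c00040002800100008000400020001000080004000200018000a000500028001400080005000280010000a000400020002000010004000200010000a00040002000100008000400020001000080004000280014000a0005000200014000a000400028001000080000800200010000800040002800100008000400020001000080004000200010000a000500028001400080005000280010000a000400004001800080004000200010000a00040003000100008000400020001000080004000280014000a0005000200014000a0004000080002000c000400020001000080004000280010000c0004000200010000a0004000280010000a0004000280014000a00040002000040001000400020001000080004000200010000a00040002000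1000080005000280014000a0004000200010000a0004000200014000a00008002000100008000400020001000080004000280010000800040002800140008000500028001400080004000200014000a00040000400180008000400020001000080004000200010000a0006000200010000a0005000200014000a000500020001000080005000080002000800040002000100008000400020001000080004000280010000a000400020001400080004000280014000a0005000280010000100040002000100008000400020001000080004000200010000a000400028001000080005000200010000a0005000280014000a0000800200010000800040002000100008000400020001000080004000200010000800040002000100008000400020001000080008000040018000c00040002000100008000400020001000080004000200010000800040002000100008000400020001000080004000400002000c0004000300010000800040002000100008000400020001000080004000200010000800040002000100008000400020002000010006000200010000c0004000200010000800040002000100008000400020001000080004000200010000800040002000100010000080030001000080004000300010000800040002000100008000400020001000080004000200010000800040002000100008000800004001800080004000200010000c0004000200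01000080004000200010000800040002000100008000400020001000080004000400002000c000400020001000080004000300010000800040002000100008000400020001000080004000200010000800040002000200001000600020001000080004000200010000c0004000200010000800040002000100008000400020001000080004000200010001000008003000100008000400020001000080004000300010000800040002000100008000400020001000080004000200010000800080000400180008000400020001000080004000200010000c0004000200010000800040002000100008000400020001000080004000400002000c00040002000100008000400020001000080004000300010000800040002000100008000400020001000080004000200020000100060002000100008000400020001000080004000200010000c000400020001000080004000200010000800040002000100010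
/-- codes of 24 lattice vectors, a hyperbolic basis modulo 2 -/
def us (k : ℕ) : ℕ := fld UT (nat_lit 425) m425 k
noncomputable def uu (k : ℕ) : Λ := lv (us k)
noncomputable def pb (k : ℕ) (x : Λ) : Bool := decide (dotInt (uu k : V) (x : V) / 8 % 2 = 1)
/-- the class of a lattice vector modulo 2, as a number below `2 ^ 24` -/
noncomputable def cl (x : Λ) : ℕ := Nat.ofBits fun k : Fin 24 => pb k x
/-- a lattice vector of class `2 ^ k` -/
noncomputable def ug (k : ℕ) : Λ := uu ((k + 12) % 24)

/-- `(-1) ^ (b · j)` -/
noncomputable def sg (b j : ℕ) : ℝ := ∏ k ∈ range 12, if b.testBit k && j.testBit k then -1 else 1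
/-- the Pauli matrix `X ^ a Z ^ b` of `x = a + 4096 b` -/
noncomputable def P (x : ℕ) : Matrix κ κ ℝ :=
  fun i j => if i.val = j.val ^^^ (x % 4096) then sg (x / 4096) j else 0
noncomputable def PL (x : Λ) : Matrix κ κ ℝ := P (cl x)
noncomputable def R (r : Λ) : Matrix ι ι ℝ := fun i j => ((r : V) i : ℝ) * ((r : V) j : ℝ) / 8
noncomputable def mat (g : Co0) : Matrix ι ι ℝ := fun i j => (((g • e8 j : Λ) : V) i : ℝ) / 8
/-- the 196560 short vectors -/
noncomputable def L2F : Finset Λ := (finite_normL 32).toFinset

abbrev Amb := Matrix ι ι ℝ × Matrix κ κ ℝ × Matrix ι κ ℝ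

def symS : Submodule ℝ (Matrix ι ι ℝ) where
  carrier := {A | Aᵀ = A}
  add_mem' := fun {a b} ha hb => by
    change _ = _ at *; rw [transpose_add, ha, hb]
  zero_mem' := transpose_zero
  smul_mem' := fun c a ha => by change _ = _ at *; rw [transpose_smul, ha]

noncomputable def US : Submodule ℝ (Matrix κ κ ℝ) := Submodule.span ℝ (PL '' L2)
noncomputable def V0 : Submodule ℝ Amb := symS.prod (US.prod ⊤)
/-- the 196884-dimensional space -/
abbrev VV := ↥V0
abbrev GG := (Module.End ℝ VV)ˣ

noncomputable def mc (M : Matrix κ κ ℝ) (r : Λ) : ℝ := trace (PL r * M) / 4096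
noncomputable def ip (u v : Amb) : ℝ :=
  trace (u.1 * v.1) + trace (u.2.1 * v.2.1) / 4096 + trace (u.2.2 * v.2.2ᵀ)
noncomputable def T0 (u v w : Amb) : ℝ :=
  4 * trace (u.1 * v.1 * w.1) + (∑ r ∈ L2F, (trace (R r * u.1) * mc v.2.1 r * mc w.2.1 r +
    trace (R r * v.1) * mc u.2.1 r * mc w.2.1 r + trace (R r * w.1) * mc u.2.1 r * mc v.2.1 r)) / 2 +
    trace (u.2.1 * v.2.1 * w.2.1) / 4096
noncomputable def T1 (u : Amb) (W U : Matrix ι κ ℝ) : ℝ :=
  trace (u.1 * W * Uᵀ) + trace u.1 / 8 * trace (W * Uᵀ) +
    (∑ r ∈ L2F, mc u.2.1 r * trace ((1 - (2 : ℝ) • R r) * W * PL r * Uᵀ)) / 16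
/-- the invariant trilinear form -/
noncomputable def TT (u v w : Amb) : ℝ :=
  T0 u v w + T1 u v.2.2 w.2.2 + T1 v u.2.2 w.2.2 + T1 w u.2.2 v.2.2
/-- the product `u * v`, for `u` without third component -/
noncomputable def Lop (u v : Amb) : Amb :=
  ((2 : ℝ) • (u.1 * v.1 + v.1 * u.1) + ∑ r ∈ L2F, (mc u.2.1 r * mc v.2.1 r / 2) • R r,
    ∑ r ∈ L2F, ((trace (R r * u.1) * mc v.2.1 r + trace (R r * v.1) * mc u.2.1 r +
      mc (u.2.1 * v.2.1) r) / 2) • PL r,
    u.1 * v.2.2 + (trace u.1 / 8) • v.2.2 +
      ∑ r ∈ L2F, (mc u.2.1 r / 16) • ((1 - (2 : ℝ) • R r) * v.2.2 * PL r))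

/-- automorphisms of the form and the algebra -/
def Aut : Subgroup GG where
  carrier := {g | (∀ u v : VV, ip (g • u : VV) (g • v : VV) = ip u v) ∧
    ∀ u v w : VV, TT (g • u : VV) (g • v : VV) (g • w : VV) = TT u v w}
  one_mem' := ⟨fun u v => by rw [one_smul, one_smul], fun u v w => by simp only [one_smul]⟩
  mul_mem' := fun {a b} ha hb => ⟨fun u v => by rw [mul_smul, mul_smul, ha.1, hb.1],
    fun u v w => by simp only [mul_smul]; rw [ha.2, hb.2]⟩
  inv_mem' := fun {a} ha => ⟨fun u v => by rw [← ha.1, smul_inv_smul, smul_inv_smul],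
    fun u v w => by rw [← ha.2]; simp only [smul_inv_smul]⟩

abbrev OG := Matrix.orthogonalGroup κ ℝ

theorem OG.mul_tr (c : OG) : (c : Matrix κ κ ℝ) * (c : Matrix κ κ ℝ)ᵀ = 1 := c.2.2
theorem OG.tr_mul (c : OG) : (c : Matrix κ κ ℝ)ᵀ * (c : Matrix κ κ ℝ) = 1 := c.2.1

/-- pairs of an automorphism of the lattice and a compatible orthogonal matrix -/
def Ht : Subgroup (Co0 × OG) where
  carrier := {p | ∀ x : Λ, (p.2 : Matrix κ κ ℝ) * PL x * (p.2 : Matrix κ κ ℝ)ᵀ = PL (p.1 • x) ∨
    (p.2 : Matrix κ κ ℝ) * PL x * (p.2 : Matrix κ κ ℝ)ᵀ = -PL (p.1 • x)}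
  one_mem' := fun x => Or.inl (by simp)
  mul_mem' := fun {a b} ha hb x => by
    have e : ((a * b).2 : Matrix κ κ ℝ) * PL x * ((a * b).2 : Matrix κ κ ℝ)ᵀ =
        (a.2 : Matrix κ κ ℝ) * ((b.2 : Matrix κ κ ℝ) * PL x * (b.2 : Matrix κ κ ℝ)ᵀ) *
          (a.2 : Matrix κ κ ℝ)ᵀ := by
      simp only [Prod.snd_mul, Submonoid.coe_mul, transpose_mul, Matrix.mul_assoc]
    rw [e, Prod.fst_mul, mul_smul]
    rcases hb x with h | h <;> rcases ha (b.1 • x) with h' | h' <;>
      simp only [h, h', Matrix.mul_neg, Matrix.neg_mul, neg_neg, true_or, or_true]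
  inv_mem' := fun {a} ha x => by
    have e : ∀ M : Matrix κ κ ℝ, ((a⁻¹).2 : Matrix κ κ ℝ) * ((a.2 : Matrix κ κ ℝ) * M *
        (a.2 : Matrix κ κ ℝ)ᵀ) * ((a⁻¹).2 : Matrix κ κ ℝ)ᵀ = M := fun M => by
      change (a.2 : Matrix κ κ ℝ)ᵀ * _ * (a.2 : Matrix κ κ ℝ)ᵀᵀ = M
      rw [transpose_transpose, ← Matrix.mul_assoc, ← Matrix.mul_assoc, OG.tr_mul, Matrix.one_mul,
        Matrix.mul_assoc, OG.tr_mul, Matrix.mul_one]
    have h := ha (a⁻¹.1 • x)
    rw [Prod.fst_inv, smul_inv_smul] at h
    rw [Prod.fst_inv]
    rcases h with h | h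
    · exact Or.inl (by rw [← h, e])
    · exact Or.inr (by rw [← neg_eq_iff_eq_neg, ← Matrix.neg_mul, ← Matrix.mul_neg, ← h, e])

theorem mat_mulVec (g : Co0) (x : Λ) :
    mat g *ᵥ (fun i => ((x : V) i : ℝ)) = fun i => (((g • x : Λ) : V) i : ℝ) := by
  have e : (8 : ℤ) • x = ∑ j, (x : V) j • e8 j := by
    ext i
    simp only [e8, AddSubgroup.val_finsetSum, Finset.sum_apply, AddSubgroup.coe_zsmul,
      Pi.smul_apply, smul_eq_mul, Pi.single_apply, mul_ite, mul_zero, sum_ite_eq, mem_univ, if_true]
    ring
  have e2 := congrArg (fun y => g • y) e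
  simp only [smul_zsmul] at e2
  rw [show g • ∑ j, (x : V) j • e8 j = _ from map_sum (hom g) _ _] at e2
  funext i
  have e3 := congrArg (fun y : Λ => (((y : V) i : ℤ) : ℝ)) e2
  simp only [map_zsmul, AddSubgroup.val_finsetSum, Finset.sum_apply, AddSubgroup.coe_zsmul,
    Pi.smul_apply, smul_eq_mul, Int.cast_mul, Int.cast_sum, Int.cast_ofNat] at e3
  simp only [mulVec, dotProduct, mat]
  have : ∀ j, (((g • e8 j : Λ) : V) i : ℝ) / 8 * ((x : V) j : ℝ) =
      ((x : V) j : ℝ) * (((hom g (e8 j) : Λ) : V) i : ℝ) / 8 := fun j => by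
    change _ = _ * (((g • e8 j : Λ) : V) i : ℝ) / 8; ring
  simp only [this, ← Finset.sum_div, ← e3]
  ring

theorem mat_one : mat 1 = 1 := by
  ext i j
  simp only [mat, one_smul, e8, Pi.single_apply, Matrix.one_apply]
  split_ifs <;> simp

theorem mat_mul (g h : Co0) : mat (g * h) = mat g * mat h := by
  ext i j
  have := congrFun (mat_mulVec g (h • e8 j)) i
  simp only [mulVec, dotProduct] at this
  simp only [mat, mul_smul, Matrix.mul_apply, ← this, Finset.sum_div]
  exact sum_congr rfl fun k _ => by ring

/-- the action on the ambient space -/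
noncomputable def act (g : Matrix ι ι ℝ) (c : Matrix κ κ ℝ) : Amb →ₗ[ℝ] Amb where
  toFun u := (g * u.1 * gᵀ, c * u.2.1 * cᵀ, g * u.2.2 * cᵀ)
  map_add' u v := by simp [Matrix.mul_add, Matrix.add_mul]
  map_smul' a u := by simp

theorem act_mem (h : Ht) (u : Amb) (hu : u ∈ V0) : act (mat h.1.1) h.1.2 u ∈ V0 := by
  refine ⟨?_, ?_, trivial⟩
  · have : u.1ᵀ = u.1 := hu.1
    change (_ * _ * _)ᵀ = _ * _ * _
    rw [transpose_mul, transpose_mul, transpose_transpose, this, Matrix.mul_assoc]
  · change _ * u.2.1 * _ ∈ US
    refine Submodule.span_induction (p := fun M _ => (h.1.2 : Matrix κ κ ℝ) * M *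
      (h.1.2 : Matrix κ κ ℝ)ᵀ ∈ US) ?_ (by simp) (fun x y _ _ a b => ?_) (fun a x _ b => ?_) hu.2.1
    · rintro _ ⟨r, hr, rfl⟩
      have : PL (h.1.1 • r) ∈ US := Submodule.subset_span ⟨_, smul_mem_L2 _ hr, rfl⟩
      rcases h.2 r with e | e <;> rw [e]
      exacts [this, neg_mem this]
    · rw [Matrix.mul_add, Matrix.add_mul]; exact add_mem a b
    · rw [Matrix.mul_smul, Matrix.smul_mul]; exact US.smul_mem a b

noncomputable def rho0 : Ht →* Module.End ℝ VV where
  toFun h := (act (mat h.1.1) h.1.2).restrict (act_mem h)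
  map_one' := by
    ext1 u
    refine Subtype.ext ?_
    simp [act, mat_one]
  map_mul' a b := by
    ext1 u
    refine Subtype.ext ?_
    simp [act, mat_mul, Matrix.mul_assoc]

/-- the representation of `2^{1+24} Co0` -/
noncomputable def rho : Ht →* GG := rho0.toHomUnits

theorem rho_smul (h : Ht) (u : VV) : ((rho h • u : VV) : Amb) = act (mat h.1.1) h.1.2 u := rfl

/-- the group `2^{1+24} Co1` -/
noncomputable def HH : Subgroup GG := rho.range

end Cfsg.Agent.Mo
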