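import Cfsg.Agent.Mo.Gen2

/-! Operator equality test (`Gen1`), generators of `2^{1+24} Co1` as programs (`Gen2a`, `Gen2`). -/
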