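import Cfsg.Agent.Mo.Prog
import Cfsg.Agent.Mo.Pauli
import Cfsg.Agent.Mo.Bfs

/-! Part L1: the operator equality test and the images of Pauli matrices on planes. -/

set_option autoImplicit false

namespace Cfsg.Agent.Mo

open H5 H5.Lee Matrix Finset

/-! ### operator equality test: blocks of `2 ^ t` consecutive addresses, `N ≤ 2 ^ J` -/

theorem cnd_false_iff {b c : Bool} : cnd b c false = true ↔ b = true ∧ c = true := by
  cases b <;> simp
/-- `2 ^ n` copies of `x` with stride `w` -/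
def dblp (n : ℕ) : ℕ → ℕ → ℕ :=
  Nat.rec (fun x _ => x) (fun _ ih x w => ih (Nat.lor x (Nat.shiftLeft x w)) (Nat.add w w)) n
theorem tb_dblp (n : ℕ) {x w : ℕ} (hw : 0 < w) (h : ∀ p, w ≤ p → x.testBit p = false) (p : ℕ) :
    (dblp n x w).testBit p = (decide (p < w * 2 ^ n) && x.testBit (p % w)) := by
  induction n generalizing x w with
  | zero =>
    change x.testBit p = _
    by_cases a : p < w
    · simp [a, Nat.mod_eq_of_lt a]
    · simp [a, h p (not_lt.1 a)]
  | succ n ih =>
    change (dblp n (Nat.lor x (Nat.shiftLeft x w)) (w + w)).testBit p = _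
    rw [ih (by omega) fun q hq => by simp [h q (by omega), h (q - w) (by omega)],
      show (w + w) * 2 ^ n = w * 2 ^ (n + 1) by ring]
    congr 1
    have e : p % w = p % (w + w) % w := (Nat.mod_mod_of_dvd _ (by simp)).symm
    have e2 := Nat.mod_lt p (show 0 < w + w by omega)
    rw [e]
    generalize p % (w + w) = r at e2
    by_cases a : r < w
    · simp [Nat.mod_eq_of_lt a, not_le.2 a]
    · rw [Nat.mod_eq_sub_mod (not_lt.1 a), Nat.mod_eq_of_lt (by omega)]
      simp [h r (not_lt.1 a), not_lt.1 a]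
def ixp1 (n w : ℕ) : ℕ := dblp n (Nat.shiftLeft (ones w) w) (Nat.add w w)
/-- the plane of bit `k` of the address -/
def ixp (J k : ℕ) : ℕ := ixp1 (Nat.sub J (Nat.succ k)) (Nat.shiftLeft 1 k)
theorem tb_ixp {J k p : ℕ} (hk : k < J) (hp : p < 2 ^ J) : (ixp J k).testBit p = p.testBit k := by
  have e : Nat.shiftLeft 1 k = 2 ^ k := Nat.one_shiftLeft k
  have h0 : 0 < 2 ^ k := Nat.two_pow_pos k
  rw [ixp, e, ixp1, Nat.add_eq, tb_dblp _ (by omega) fun q hq => by simp; omega,
    show 2 ^ k + 2 ^ k = 2 ^ (k + 1) by ring, ← pow_add,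
    show k + 1 + Nat.sub J (Nat.succ k) = J by simp only [Nat.sub_eq]; omega]
  have e2 := Nat.mod_lt p (Nat.two_pow_pos (k + 1))
  rw [show p.testBit k = (p % 2 ^ (k + 1)).testBit k by simp]
  generalize p % 2 ^ (k + 1) = r at e2
  rw [pow_succ] at e2
  by_cases a : r < 2 ^ k
  · simp [Nat.testBit_lt_two_pow a, not_le.2 a]
  · rw [Nat.testBit_of_two_pow_le_and_two_pow_add_one_gt (not_lt.1 a) (by rw [pow_succ]; omega)]
    simp [hp]; omega
def ixps (J t : ℕ) : List ℕ := Nat.rec [] (fun i ih => ixp J (Nat.add t i) :: ih) (Nat.sub J t)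
theorem mem_ixps {J t k : ℕ} (h1 : t ≤ k) (h2 : k < J) : ixp J k ∈ ixps J t := by
  have : ∀ n i, i < n → ixp J (t + i) ∈
      (Nat.rec [] (fun i ih => ixp J (Nat.add t i) :: ih) n : List ℕ) := fun n => by
    induction n with
    | zero => omega
    | succ n ih =>
      intro i hi
      rcases Nat.lt_succ_iff_lt_or_eq.1 hi with a | rfl
      exacts [List.mem_cons_of_mem _ (ih i a), List.mem_cons_self]
  have := this (J - t) (k - t) (by omega)
  rwa [show t + (k - t) = k by omega] at this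
theorem div_eq_of_ixps {J t p r : ℕ} (hp : p < 2 ^ J) (hr : r < 2 ^ J)
    (h : ∀ x ∈ ixps J t, x.testBit p = x.testBit r) : p / 2 ^ t = r / 2 ^ t := by
  refine Nat.eq_of_testBit_eq fun i => ?_
  rw [Nat.testBit_div_two_pow, Nat.testBit_div_two_pow]
  by_cases a : i + t < J
  · rw [← tb_ixp a hp, ← tb_ixp a hr, h _ (mem_ixps (by omega) a)]
  · have := Nat.pow_le_pow_right (show 0 < 2 by omega) (not_lt.1 a)
    rw [Nat.testBit_lt_two_pow (by omega), Nat.testBit_lt_two_pow (by omega)]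

def frcK {α : Type} (xs : List ℕ) (k : List ℕ → α) : α := frc xs (k xs)
theorem frcK_eq {α : Type} (xs : List ℕ) (k : List ℕ → α) : frcK xs k = k xs := frc_eq _ _
def orx (s : ℕ) (xs : List ℕ) : ℕ :=
  List.rec 0 (fun x _ ih => Nat.lor (Nat.xor (Nat.shiftRight x s) x) ih) xs
theorem tb_orx {s : ℕ} {xs : List ℕ} {p : ℕ} (h : (orx s xs).testBit p = false) :
    ∀ x ∈ xs, x.testBit (p + s) = x.testBit p := by
  induction xs with
  | nil => simp
  | cons y t ih =>
    change (Nat.lor _ (orx s t)).testBit p = false at h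
    simp only [tb_or, tb_xor, tb_shr, Bool.or_eq_false_iff, bne_eq_false_iff_eq] at h
    exact List.forall_mem_cons.2 ⟨h.1, ih h.2⟩
/-- run the labels through `P`, check the butterflies, continue with `k` -/
def labK (k : List ℕ → Bool) (P : Prog) : List ℕ → Bool :=
  List.rec k (fun a _ ih xs => cnd (Nat.ble a.k 1) (frcK (lmap (runB1 a) xs) ih)
    (cnd (Nat.beq a.k 3) (cnd (Nat.beq (Nat.land (orx a.s xs) a.m) 0) (ih xs) false) (ih xs))) P
theorem labK_spec {N : ℕ} {k : List ℕ → Bool} {P : Prog} (h : wf N P = true) {xs : List ℕ}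
    (hk : labK k P xs = true) : k (xs.map (runB P)) = true ∧ ∀ (f g : ℕ → ℝ) (q : ℕ),
      (∀ p, (∀ x ∈ xs, x.testBit p = x.testBit (src P q)) → f p = g p) → sem P f q = sem P g q := by
  induction P generalizing xs with
  | nil => exact ⟨by rw [show runB [] = id from rfl, List.map_id]; exact hk, fun f g q a =>
      a q fun _ _ => rfl⟩
  | cons a P ih =>
    rw [wf_cons] at h
    change cnd _ (frcK _ (labK k P)) (cnd _ (cnd _ (labK k P xs) false) (labK k P xs)) = true at hk
    by_cases h1 : a.k ≤ 1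
    · rw [Nat.ble_eq_true_of_le h1, cnd_true, frcK_eq, lmap_eq] at hk
      obtain ⟨b, c⟩ := ih h.2 hk
      refine ⟨by rw [List.map_map] at b; exact b, fun f g q e => c _ _ q fun p hp => ?_⟩
      simp only [semS, if_pos h1]
      refine e _ fun x hx => ?_
      have := hp _ (List.mem_map_of_mem hx)
      rwa [tb_runB1 h.1, tb_runB1 h.1, srcS, if_pos h1] at this
    rw [ble_f h1, cnd_false] at hk
    have e1 : runB (a :: P) = runB P := funext fun x => by
      change runB P (runB1 a x) = _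
      rw [runB1, beq_f (show a.k ≠ 0 by omega), beq_f (show a.k ≠ 1 by omega), cnd_false, cnd_false]
    have e2 : ∀ q, src (a :: P) q = src P q := fun q => if_neg h1
    simp only [e1, e2]
    by_cases h3 : a.k = 3
    · rw [beq_t h3, cnd_true, cnd_false_iff] at hk
      obtain ⟨b, c⟩ := ih h.2 hk.2
      refine ⟨b, fun f g q e => c _ _ q fun p hp => ?_⟩
      have z : ∀ r, a.lo r = true → ∀ x ∈ xs, x.testBit (r + a.s) = x.testBit r := fun r hr => by
        have := congrArg (·.testBit r) (Nat.eq_of_beq_eq_true hk.1)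
        simp only [tb_and, Nat.zero_testBit, show a.m.testBit r = true from hr, Bool.and_true] at this
        exact tb_orx this
      have : f (a.pr p) = g (a.pr p) := e _ fun x hx => (hp x hx) ▸ by
        unfold Sg.pr
        split_ifs with c1 c2
        · exact z p c1 x hx
        · rw [Sg.hi_eq, Bool.and_eq_true_iff, decide_eq_true_eq] at c2
          rw [← z _ c2.2 x hx, Nat.sub_add_cancel c2.1]
        · rfl
      simp only [semS, e p hp, this]
    · rw [beq_f h3, cnd_false] at hk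
      obtain ⟨b, c⟩ := ih h.2 hk
      refine ⟨b, fun f g q e => c _ _ q fun p hp => ?_⟩
      simp only [semS, if_neg h1, if_neg h3, e p hp]

def btL1 (P Q : Prog) (xs : List ℕ) : Bool := labK (fun ys => labK (eqL ys) Q xs) P xs
/-- label run: both programs respect the labels `p / 2 ^ t` (butterflies join equal labels) and give the
same output labels -/
def btL (_N J t : ℕ) (P Q : Prog) : Bool := frcK (ixps J t) (btL1 P Q)

/-- `run` with evaluation after each stage -/
def runF (P : Prog) : List ℕ → List ℕ :=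
  List.rec (fun xs => xs) (fun a _ ih xs => frcK (runS a xs) ih) P
theorem runF_eq (P : Prog) (xs : List ℕ) : runF P xs = run P xs := by
  induction P generalizing xs with
  | nil => rfl
  | cons a P ih => exact (frcK_eq _ _).trans (ih _)
def bt1 (P Q : Prog) (x : ℕ) : Bool := eqL (trimP (runF P [x])) (trimP (runF Q [x]))
def btC1 (o b : ℕ) (P Q : Prog) (lo n : ℕ) : Bool :=
  Nat.rec true (fun i ih => cnd (bt1 P Q (Nat.land (Nat.shiftLeft b (Nat.add lo i)) o)) ih false) n
theorem btC1_iff {o b : ℕ} {P Q : Prog} {lo n : ℕ} : btC1 o b P Q lo n = true ↔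
    ∀ i < n, bt1 P Q (Nat.land (Nat.shiftLeft b (lo + i)) o) = true := by
  induction n with
  | zero => simp [btC1]
  | succ n ih =>
    change cnd _ (btC1 o b P Q lo n) false = true ↔ _
    rw [cnd_false_iff, ih, Nat.forall_lt_succ_right, and_comm]
    rfl
/-- both programs agree on the indicator vectors of `p % 2 ^ t = σ`, `p < N`, for `lo ≤ σ < lo + n` -/
def btC (N J t : ℕ) (P Q : Prog) (lo n : ℕ) : Bool :=
  btC1 (ones N) (dblp (Nat.sub J t) 1 (Nat.shiftLeft 1 t)) P Q lo n
theorem btC_add {N J t : ℕ} {P Q : Prog} {lo n m : ℕ} (h1 : btC N J t P Q lo n = true)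
    (h2 : btC N J t P Q (lo + n) m = true) : btC N J t P Q lo (n + m) = true := by
  rw [btC, btC1_iff] at *
  intro i hi
  by_cases a : i < n
  · exact h1 i a
  · have := h2 (i - n) (by omega)
    rwa [show lo + n + (i - n) = lo + i by omega] at this
theorem bt_aux {N J t : ℕ} {P Q : Prog} (hN : N ≤ 2 ^ J) (ht : t ≤ J) (hP : wf N P = true)
    (hQ : wf N Q = true) (hL : btL N J t P Q = true) (hC : btC N J t P Q 0 (2 ^ t) = true)
    {f : ℕ → ℝ} (hf : ∀ p, N ≤ p → f p = 0) : sem P f = sem Q f := by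
  funext q
  by_cases hq : N ≤ q
  · rw [sem_out hP f hq, sem_out hQ f hq]
  rw [btL, frcK_eq, btL1] at hL
  obtain ⟨a1, l1⟩ := labK_spec hP hL
  obtain ⟨a2, l2⟩ := labK_spec hQ a1
  have s1 := src_lt hP (not_le.1 hq)
  have s2 := src_lt hQ (not_le.1 hq)
  have e : src P q / 2 ^ t = src Q q / 2 ^ t := div_eq_of_ixps (s1.trans_le hN) (s2.trans_le hN)
    fun x hx => by rw [← tb_runB hP, ← tb_runB hQ, List.map_inj_left.1 (eqL_spec a2) x hx]
  have h0 : 0 < 2 ^ t := Nat.two_pow_pos t
  let X : ℕ → ℕ := fun σ => Nat.land (Nat.shiftLeft (dblp (Nat.sub J t) 1 (Nat.shiftLeft 1 t)) σ) (ones N)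
  have hX : ∀ σ < 2 ^ t, ∀ p, (X σ).testBit p = decide (p < N ∧ p % 2 ^ t = σ) := fun σ hσ p => by
    have e1 : Nat.shiftLeft 1 t = 2 ^ t := Nat.one_shiftLeft t
    simp only [X, tb_and, tb_shl, tb_ones, e1]
    rw [tb_dblp _ h0 fun r hr => Nat.testBit_lt_two_pow (Nat.one_lt_two_pow (by omega)), ← pow_add,
      show t + Nat.sub J t = J by simp only [Nat.sub_eq]; omega,
      show ∀ i, Nat.testBit 1 i = decide (i = 0) from fun i => by cases i <;> simp [Nat.testBit_succ]]
    by_cases a : p < N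
    · have : p - σ < 2 ^ J := by omega
      simp only [a, this, decide_true, Bool.true_and, Bool.and_true, true_and, ← Bool.decide_and]
      refine decide_eq_decide.2 ⟨fun ⟨b, c⟩ => ?_, fun b => ⟨b ▸ Nat.mod_le _ _, ?_⟩⟩
      · rw [← Nat.sub_add_cancel b, Nat.add_mod, c, zero_add, Nat.mod_mod, Nat.mod_eq_of_lt hσ]
      · rw [← b]; exact Nat.mod_eq_zero_of_dvd (Nat.dvd_sub_mod p)
    · simp [a]
  have hg : ∀ b p, (p < N → p / 2 ^ t = b) →
      f p = ∑ σ ∈ range (2 ^ t), -f (2 ^ t * b + σ) * (vz [X σ] p : ℝ) := fun b p hp => by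
    by_cases a : p < N
    · rw [sum_eq_single (p % 2 ^ t) (fun σ hσ c => by
        rw [vz_one, hX σ (mem_range.1 hσ)]; simp [c.symm])
        (fun c => absurd (mem_range.2 (Nat.mod_lt _ h0)) c), vz_one, hX _ (Nat.mod_lt _ h0), ← hp a,
        Nat.div_add_mod]
      simp [a]
    · rw [hf p (not_lt.1 a), sum_eq_zero fun σ hσ => by rw [vz_one, hX σ (mem_range.1 hσ)]; simp [a]]
  rw [l1 f _ q fun p hp => hg (src P q / 2 ^ t) p fun a =>
      div_eq_of_ixps (a.trans_le hN) (s1.trans_le hN) hp,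
    l2 f _ q fun p hp => hg (src Q q / 2 ^ t) p fun a =>
      div_eq_of_ixps (a.trans_le hN) (s2.trans_le hN) hp, sem_sum, sem_sum, e]
  refine sum_congr rfl fun σ hσ => ?_
  have := eqL_spec (btC1_iff.1 hC σ (mem_range.1 hσ))
  rw [zero_add, runF_eq, runF_eq] at this
  rw [← vz_run hP, ← vz_run hQ, ← vz_trimP, this, vz_trimP]
theorem bt_spec {N J t : ℕ} {π P Q : Prog} (hN : N ≤ 2 ^ J) (ht : t ≤ J) (hπ : wf N π = true)
    (hm : mono π = true) (hP : wf N P = true) (hQ : wf N Q = true)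
    (hL : btL N J t (π ++ P) (π ++ Q) = true) (hC : btC N J t (π ++ P) (π ++ Q) 0 (2 ^ t) = true)
    {f : ℕ → ℝ} (hf : ∀ p, N ≤ p → f p = 0) : sem P f = sem Q f := by
  have e := sem_rev (wf_reverse hπ) (by simpa only [mono_iff, List.mem_reverse] using hm) f
  rw [List.reverse_reverse] at e
  rw [← e, ← sem_append π, ← sem_append π]
  exact bt_aux hN ht (wf_append.2 ⟨hπ, hP⟩) (wf_append.2 ⟨hπ, hQ⟩) hL hC fun p hp => by
    rw [sem_out (wf_reverse hπ) f hp, hf p hp]

/-! ### images of Pauli matrices -/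

/-- images of the 24 basic Pauli matrices -/
def Tr (h : Ht) (ys : List ℕ) (ss : ℕ) : Prop := ys.length = 24 ∧ ∀ k < 24,
  cl (h.1.1 • ug k) = ys.getD k 0 ∧
    (h.1.2 : Matrix κ κ ℝ) * P (2 ^ k) * (h.1.2 : Matrix κ κ ℝ)ᵀ = sgn (ss.testBit k) • P (ys.getD k 0)

theorem apL_zero (ys : List ℕ) : ap ys 0 = 0 := by
  induction ys with
  | nil => rfl
  | cons y t ih => simp [ap, ih]
theorem apL_xor (ys : List ℕ) (a b : ℕ) : ap ys (a ^^^ b) = ap ys a ^^^ ap ys b := by
  induction ys generalizing a b with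
  | nil => simp [ap]
  | cons y t ih =>
    simp only [ap, Nat.xor_div_two, ih, Nat.xor_mod_two_eq_one]
    by_cases h1 : a % 2 = 1 <;> by_cases h2 : b % 2 = 1 <;>
      simp [h1, h2, Nat.xor_assoc, Nat.xor_left_comm]
theorem apL_two_pow (ys : List ℕ) (k : ℕ) : ap ys (2 ^ k) = ys.getD k 0 := by
  induction ys generalizing k with
  | nil => rfl
  | cons y t ih =>
    cases k with
    | zero => simp [ap, apL_zero]
    | succ k => rw [ap, pow_succ, Nat.mul_mod_left, Nat.mul_div_cancel _ (by omega), ih]; simp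
theorem Tr.ap {h : Ht} {ys : List ℕ} {ss : ℕ} (t : Tr h ys ss) (x : Λ) :
    cl (h.1.1 • x) = ap ys (cl x) := by
  have : ∀ n < 2 ^ 24, ∃ y, cl y = n ∧ cl (h.1.1 • y) = Mo.ap ys n := by
    refine xor_ind 24 ⟨0, cl_zero, by rw [smul_zero', cl_zero, apL_zero]⟩
      (fun k hk => ⟨ug k, cl_ug hk, by rw [apL_two_pow, (t.2 k hk).1]⟩) ?_
    rintro _ - _ - ⟨a, rfl, ha⟩ ⟨b, rfl, hb⟩
    exact ⟨a + b, cl_add a b, by rw [smul_add', cl_add, ha, hb, apL_xor]⟩
  obtain ⟨y, e, a⟩ := this _ (cl_lt x)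
  rw [← a, cl_smul _ e]

def odd (y : ℕ) : Bool := Nat.beq (Nat.land y 1) 1
theorem odd_eq (y : ℕ) : odd y = y.testBit 0 := by
  have : Nat.land y 1 = y % 2 := Nat.and_one_is_mod y
  rw [odd, this, Nat.testBit_zero]
  rcases Nat.mod_two_eq_zero_or_one y with h | h <;> rw [h] <;> rfl
/-- add `b` to the planes selected by the bits of `y` -/
def xsel (b : ℕ) (A : List ℕ) : ℕ → List ℕ :=
  List.rec (fun _ => []) (fun x _ ih y => cnd (odd y) (Nat.xor x b :: ih (Nat.shiftRight y 1))
    (x :: ih (Nat.shiftRight y 1))) A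
theorem two_xor (a b : Bool) (x y : ℕ) :
    (a.toNat + 2 * x) ^^^ (b.toNat + 2 * y) = (a ^^ b).toNat + 2 * (x ^^^ y) := by
  have e : ∀ (c : Bool) (z : ℕ), c.toNat + 2 * z = Nat.bit c z := fun c z => by
    rw [Nat.bit_val]; omega
  rw [e, e, e, Nat.xor_bit]
theorem xsel_spec (b : ℕ) (A : List ℕ) (y p : ℕ) : (xsel b A y).length = A.length ∧
    vn (xsel b A y) p = vn A p ^^^ if b.testBit p then y % 2 ^ A.length else 0 := by
  induction A generalizing y with
  | nil => simp [xsel, Nat.mod_one]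
  | cons x t ih =>
    change (cnd (odd y) (Nat.xor x b :: xsel b t (y >>> 1)) (x :: xsel b t (y >>> 1))).length = _ ∧
      vn (cnd (odd y) (Nat.xor x b :: xsel b t (y >>> 1)) (x :: xsel b t (y >>> 1))) p = _
    have e : y % 2 ^ (t.length + 1) = (y.testBit 0).toNat + 2 * (y >>> 1 % 2 ^ t.length) := by
      rw [pow_succ', Nat.mod_mul, Nat.shiftRight_one, Nat.toNat_testBit]; simp
    rw [odd_eq, List.length_cons, e]
    have z : (0 : ℕ) = false.toNat + 2 * 0 := rfl
    cases y.testBit 0 <;> cases hb : b.testBit p <;>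
      simp only [cnd_true, cnd_false, List.length_cons, vn_cons, ih, hb, tb_xor, true_and, if_true,
        two_xor, Bool.false_eq_true, if_false, Nat.xor_zero, Bool.xor_false]
/-- sum of the planes selected by the bits of `y` -/
def bsel (A : List ℕ) : ℕ → ℕ :=
  List.rec (fun _ => 0) (fun x _ ih y => cnd (odd y) (Nat.xor x (ih (Nat.shiftRight y 1)))
    (ih (Nat.shiftRight y 1))) A
theorem bsel_spec (A : List ℕ) (y p : ℕ) : sgn ((bsel A y).testBit p) =
    ∏ k ∈ range A.length, if (vn A p).testBit k && y.testBit k then -1 else 1 := by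
  induction A generalizing y with
  | nil => simp [bsel, sgn]
  | cons x t ih =>
    change sgn ((cnd (odd y) (Nat.xor x (bsel t (y >>> 1))) (bsel t (y >>> 1))).testBit p) = _
    have e : ∀ (c : Bool) (z : ℕ), c.toNat + 2 * z = Nat.bit c z := fun c z => by
      rw [Nat.bit_val]; omega
    rw [List.length_cons, prod_range_succ', vn_cons, e, odd_eq]
    simp only [Nat.testBit_bit_succ, Nat.testBit_bit_zero, Nat.testBit_succ y, ← Nat.shiftRight_one,
      ← ih]
    cases y.testBit 0 <;> cases hx : x.testBit p <;> simp [hx, sgn_xor, sgn_not]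
def appL (A B : List ℕ) : List ℕ := List.rec B (fun x _ ih => x :: ih) A
theorem appL_spec (A B : List ℕ) (p : ℕ) : (appL A B).length = A.length + B.length ∧
    vn (appL A B) p = vn A p + 2 ^ A.length * vn B p := by
  induction A with
  | nil => simp [appL]
  | cons x t ih =>
    change (x :: appL t B).length = _ ∧ vn (x :: appL t B) p = _
    simp only [List.length_cons, vn_cons, ih]
    constructor <;> ring
theorem vn_lt (A : List ℕ) (p : ℕ) : vn A p < 2 ^ A.length := by
  induction A with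
  | nil => simp
  | cons x t ih =>
    have := Bool.toNat_le (x.testBit p)
    rw [vn_cons, List.length_cons, pow_succ]; omega
def img1 (ys : List ℕ) : List ℕ → ℕ → ℕ → List ℕ → List ℕ → List ℕ :=
  List.rec (fun _ _ t L H => t :: appL L H) (fun y _ ih bs ss t L H =>
    List.rec (t :: appL L H) (fun b bt _ => ih bt (Nat.shiftRight ss 1)
      (Nat.xor t (Nat.land b (cnd (odd ss) (Nat.xor b (bsel H y)) (bsel H y))))
      (xsel b L y) (xsel b H (Nat.shiftRight y 12))) bs) ys
theorem P_add_two_pow {n k : ℕ} (h : n < 2 ^ k) : P (n + 2 ^ k) = P n * P (2 ^ k) := by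
  have e : n ^^^ 2 ^ k = n + 2 ^ k := by
    have := Nat.two_pow_add_eq_or_of_lt h 1
    rw [mul_one] at this
    rw [add_comm, this]
    refine Nat.eq_of_testBit_eq fun i => ?_
    rw [Nat.testBit_xor, Nat.testBit_or, Nat.testBit_two_pow]
    by_cases a : k = i
    · subst a; simp [Nat.testBit_lt_two_pow h]
    · simp [a]
  have e2 : sg (n / 4096) (2 ^ k % 4096) = 1 := by
    by_cases a : k < 12
    · have := Nat.pow_lt_pow_right (show 1 < 2 by omega) a
      rw [Nat.div_eq_of_lt (by omega), sg_zero]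
    · rw [Nat.mod_eq_zero_of_dvd (Nat.pow_dvd_pow 2 (not_lt.1 a) : 2 ^ 12 ∣ 2 ^ k), sg_comm, sg_zero]
  rw [P_mul', e, e2, one_smul]
theorem img1_spec {c : Matrix κ κ ℝ} (hc : cᵀ * c = 1) (ys bs : List ℕ) (k ss t : ℕ) (L H : List ℕ)
    (hl : bs.length = ys.length) (hL : L.length = 12) (hH : H.length = 12)
    (hy : ∀ i < ys.length, ys.getD i 0 < 2 ^ 24 ∧
      c * P (2 ^ (k + i)) * cᵀ = sgn (ss.testBit i) • P (ys.getD i 0)) :
    (img1 ys bs ss t L H).length = 25 ∧ ∀ (p n : ℕ) (e : Bool), n < 2 ^ k →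
      c * (sgn e • P n) * cᵀ = sgn (t.testBit p) • P (vn L p + 4096 * vn H p) →
      c * (sgn e • P (n + 2 ^ k * vn bs p)) * cᵀ =
        sgn (((img1 ys bs ss t L H).headD 0).testBit p) • P (vn (img1 ys bs ss t L H).tail p) := by
  induction ys generalizing bs k ss t L H with
  | nil =>
    obtain rfl := List.length_eq_zero_iff.1 hl
    refine ⟨by change (appL L H).length + 1 = _; rw [(appL_spec L H 0).1, hL, hH], fun p n e _ h => ?_⟩
    change _ = sgn (t.testBit p) • P (vn (appL L H) p)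
    rw [(appL_spec L H p).2, hL, vn_nil, mul_zero, add_zero, h]; rfl
  | cons y ys ih =>
    obtain ⟨b, bs, rfl⟩ := List.exists_cons_of_length_eq_add_one hl
    obtain ⟨h1, h2⟩ := ih bs (k + 1) (ss >>> 1)
      (Nat.xor t (Nat.land b (cnd (odd ss) (Nat.xor b (bsel H y)) (bsel H y))))
      (xsel b L y) (xsel b H (y >>> 12)) (by simpa using hl) ((xsel_spec _ _ _ 0).1.trans hL)
      ((xsel_spec _ _ _ 0).1.trans hH) fun i hi => by
        have := hy (i + 1) (by simpa using hi)
        rwa [List.getD_cons_succ, Nat.testBit_succ, ← Nat.shiftRight_one, ← add_assoc,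
          add_right_comm] at this
    refine ⟨h1, fun p n e hn h => ?_⟩
    have a := Bool.toNat_le (b.testBit p)
    have := h2 p (n + 2 ^ k * (b.testBit p).toNat) e (by rw [pow_succ]; nlinarith) ?_
    · rw [vn_cons, mul_add, ← add_assoc, ← mul_assoc, ← pow_succ]; exact this
    rw [(xsel_spec _ _ _ p).2, (xsel_spec _ _ _ p).2, tb_xor, tb_and]
    cases hb : b.testBit p
    · simpa using h
    obtain ⟨y1, y2⟩ := hy 0 (by simp)
    rw [List.getD_cons_zero] at y1 y2
    have l1 := vn_lt L p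
    rw [hL] at l1
    have e1 : (vn L p + 4096 * vn H p) % 4096 = vn L p := by omega
    have e2 : (vn L p + 4096 * vn H p) / 4096 = vn H p := by omega
    have e3 : (vn L p + 4096 * vn H p) ^^^ y =
        (vn L p ^^^ y % 2 ^ 12) + 4096 * (vn H p ^^^ y >>> 12 % 2 ^ 12) := by
      rw [← Nat.mod_add_div ((vn L p + 4096 * vn H p) ^^^ y) 4096, xor_mod, xor_div, e1, e2,
        Nat.shiftRight_eq_div_pow, Nat.mod_eq_of_lt (show y / 2 ^ 12 < 2 ^ 12 by omega)]
      rfl
    have e4 : sg (vn H p) (y % 4096) = sgn ((bsel H y).testBit p) := by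
      rw [bsel_spec, hH, sg]
      exact prod_congr rfl fun i hi => by
        rw [show 4096 = 2 ^ 12 from rfl, Nat.testBit_mod_two_pow]; simp [mem_range.1 hi]
    have e5 : c * (sgn e • P (n + 2 ^ k)) * cᵀ =
        c * (sgn e • P n) * cᵀ * (c * P (2 ^ (k + 0)) * cᵀ) := by
      rw [P_add_two_pow hn, add_zero, ← Matrix.smul_mul]
      simp only [Matrix.mul_assoc]
      rw [← Matrix.mul_assoc cᵀ c, hc, Matrix.one_mul]
    rw [Bool.toNat_true, mul_one, e5, h, y2, Matrix.smul_mul, Matrix.mul_smul, P_mul', e2, e3, e4,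
      smul_smul, smul_smul, if_pos rfl, if_pos rfl, hL, hH, odd_eq, Bool.true_and, sgn_xor]
    refine congrArg (· • _) ?_
    cases ss.testBit 0
    · rw [cnd_false, sgn_false, mul_one]
    · rw [cnd_true, tb_xor, hb, sgn_xor, mul_assoc]
/-- class states: a sign plane followed by 24 class planes; the image under `(ys, ss)` -/
def imgS (ys : List ℕ) (ss : ℕ) (S : List ℕ) : List ℕ :=
  List.rec [] (fun t bs _ => img1 ys bs ss t [0, 0, 0, 0, 0, 0, 0, 0, 0, 0, 0, 0]
    [0, 0, 0, 0, 0, 0, 0, 0, 0, 0, 0, 0]) S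
theorem imgS_spec {h : Ht} {ys : List ℕ} {ss : ℕ} (t : Tr h ys ss) {S : List ℕ} (hS : S.length = 25) :
    (imgS ys ss S).length = 25 ∧ ∀ (p : ℕ) (x : Λ), cl x = vn S.tail p →
      cl (h.1.1 • x) = vn (imgS ys ss S).tail p ∧
      Cj h x ((S.headD 0).testBit p) (h.1.1 • x) (((imgS ys ss S).headD 0).testBit p) := by
  obtain ⟨s, bs, rfl⟩ := List.exists_cons_of_length_eq_add_one hS
  obtain ⟨h1, h2⟩ := img1_spec (OG.tr_mul h.1.2) ys bs 0 ss s [0, 0, 0, 0, 0, 0, 0, 0, 0, 0, 0, 0]
    [0, 0, 0, 0, 0, 0, 0, 0, 0, 0, 0, 0] (by rw [t.1]; simpa using hS) rfl rfl fun i hi => by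
      rw [t.1] at hi
      rw [zero_add]
      exact ⟨(t.2 i hi).1 ▸ cl_lt _, (t.2 i hi).2⟩
  refine ⟨h1, fun p x hx => ?_⟩
  have h3 := h2 p 0 (s.testBit p) (by norm_num) (by
    simp only [vn_cons, vn_nil, Nat.zero_testBit, Bool.toNat_false, mul_zero, add_zero, P_zero]
    rw [Matrix.mul_smul, Matrix.smul_mul, Matrix.mul_one, OG.mul_tr])
  rw [pow_zero, one_mul, zero_add, ← show cl x = vn bs p from hx] at h3
  change _ = sgn (((imgS ys ss (s :: bs)).headD 0).testBit p) • P (vn (imgS ys ss (s :: bs)).tail p) at h3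
  have h4 := vn_lt (imgS ys ss (s :: bs)).tail p
  rw [List.length_tail, show (imgS ys ss (s :: bs)).length = 25 from h1] at h4
  obtain ⟨y, hy⟩ := cl_surj h4
  obtain ⟨f, c⟩ := exists_Cj h x (s.testBit p)
  rw [← hy] at h3 ⊢
  obtain ⟨a, rfl⟩ := sPL_inj (c.2.symm.trans h3)
  exact ⟨a, c⟩

end Cfsg.Agent.Mo
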