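import Cfsg.Agent.Mo.Crd
import Cfsg.Agent.Mo.Gen1
import Cfsg.Agent.Mo.Gen2a

/-! Generators of `2^{1+24} Co1` as programs: the certificate check. -/

set_option autoImplicit false

namespace Cfsg.Agent.Mo

open H4 H5 H5.Lee Matrix Finset

structure Gen where
  /-- entries `8 g i j + 8`, five bits each, at index `24 i + j` (for `genK`) -/
  C : ℕ
  /-- `r1 ++ r2` acts on 24 addresses as `2 ^ er * g` -/
  r1 : Prog
  r2 : Prog
  /-- acts on 4096 addresses as `2 ^ ec * c` -/
  c : Prog
  /-- monomial; `pi ++ c` has blocks of size `2 ^ t` -/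
  pi : Prog
  /-- monomial, acts on the 98304 positions -/
  m : Prog
  er : ℕ
  ec : ℕ
  e : ℕ
  t : ℕ
  ys : List ℕ
  ss : ℕ
  sc1 : List ℕ
  sc2 : List ℕ

def mkP (g : Gen) : Prog :=
  mergeP 576 g.sc1
    ((g.r1 ++ g.r2).map (liftR 24 false) ++ ((g.r1 ++ g.r2).map (liftC 24 false) ++ dbs 576 (g.e - 2 * g.er)))
    (mergeP 98304 g.sc2 (g.m ++ dbs 98304 g.e)
      (g.r1.map (liftR 4096 true) ++ (g.c.map (liftC 4096 true) ++ (g.r2.map (liftR 4096 true) ++
        dbs 98304 (g.e - g.er - g.ec)))))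

/-! ### programs of the Pauli matrices -/

/-- the addresses below 4096 with bit `k` zero -/
def LM (k : ℕ) : ℕ := Nat.div (ones 4096) (Nat.succ (Nat.shiftLeft 1 (Nat.shiftLeft 1 k)))
def HM (k : ℕ) : ℕ := Nat.shiftLeft (LM k) (Nat.shiftLeft 1 k)
def xsg (k : ℕ) : Sg := ⟨0, Nat.shiftLeft 1 k, LM k⟩

def LMc (k j : ℕ) : Bool :=
  and (Nat.beq ((xsg k).pr j) (j ^^^ 2 ^ k)) ((HM k).testBit j == j.testBit k)
theorem LM_chk : allLt 12 (fun k => allLt 64 fun a => allLt 64 fun b => LMc k (64 * a + b)) = true := by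
  decide +kernel
theorem LM_chk' {k j : ℕ} (hk : k < 12) (hj : j < 4096) : LMc k j = true := by
  rw [← Nat.div_add_mod j 64]
  exact allLt_iff.1 (allLt_iff.1 (allLt_iff.1 LM_chk k hk) _ (by omega)) _ (by omega)

theorem xsg_pr {k j : ℕ} (hk : k < 12) (hj : j < 4096) : (xsg k).pr j = j ^^^ 2 ^ k :=
  Nat.eq_of_beq_eq_true (Bool.and_eq_true_iff.1 (LM_chk' hk hj)).1
theorem tb_HM {k j : ℕ} (hk : k < 12) (hj : j < 4096) : (HM k).testBit j = j.testBit k :=
  beq_iff_eq.1 (Bool.and_eq_true_iff.1 (LM_chk' hk hj)).2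

def zmA (b x n : ℕ) : ℕ := Nat.rec x (fun k ih => cnd (Nat.testBit b k) (Nat.xor ih (HM k)) ih) n
def xsA (a n : ℕ) : Prog := Nat.rec [] (fun k ih => cnd (Nat.testBit a k) (xsg k :: ih) ih) n
def PP1 (m : ℕ) (Q : Prog) : Prog := cnd (Nat.beq m 0) Q (⟨2, 0, m⟩ :: Q)
/-- the program of `sgn s • P x` -/
def PPg (x : ℕ) (s : Bool) : Prog :=
  PP1 (zmA (Nat.div x 4096) (cnd s (ones 4096) 0) 12) (xsA x 12)

theorem zmA_spec (b x : ℕ) {n j : ℕ} (hn : n ≤ 12) (hj : j < 4096) :
    sgn ((zmA b x n).testBit j) =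
      sgn (x.testBit j) * ∏ k ∈ range n, if b.testBit k && j.testBit k then (-1 : ℝ) else 1 := by
  induction n with
  | zero => simp [zmA]
  | succ n ih =>
    rw [prod_range_succ, ← mul_assoc, ← ih (by omega)]
    change sgn ((cnd (b.testBit n) (Nat.xor (zmA b x n) (HM n)) (zmA b x n)).testBit j) = _
    cases b.testBit n
    · simp
    · rw [cnd_true, tb_xor, tb_HM (by omega) hj]
      cases (zmA b x n).testBit j <;> cases j.testBit n <;> simp [sgn]

theorem sem_xsA (a : ℕ) {n : ℕ} (hn : n ≤ 12) (f : ℕ → ℝ) {j : ℕ} (hj : j < 4096) :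
    sem (xsA a n) f j = f (j ^^^ a % 2 ^ n) := by
  induction n generalizing f with
  | zero => simp [xsA, sem, Nat.mod_one]
  | succ n ih =>
    change sem (cnd (a.testBit n) (xsg n :: xsA a n) (xsA a n)) f j = _
    have e : a % 2 ^ (n + 1) = a % 2 ^ n ^^^ (if a.testBit n then 2 ^ n else 0) :=
      Nat.eq_of_testBit_eq fun i => by
        rw [Nat.testBit_xor, Nat.testBit_mod_two_pow, Nat.testBit_mod_two_pow]
        rcases lt_trichotomy i n with h | rfl | h
        · cases a.testBit n <;> simp [h, h.le, Nat.lt_succ_iff, Nat.testBit_two_pow_of_ne h.ne']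
        · cases a.testBit i <;> simp
        · cases a.testBit n <;> simp [h.not_gt, h.not_ge, Nat.lt_succ_iff, Nat.testBit_two_pow_of_ne h.ne]
    rw [e]
    cases a.testBit n
    · simp [ih (by omega)]
    · have h1 : j ^^^ a % 2 ^ n < 4096 := Nat.xor_lt_two_pow (n := 12) hj
        ((Nat.mod_lt _ (by positivity)).trans_le (Nat.pow_le_pow_right (by norm_num) (by omega)))
      rw [cnd_true, sem, ih (by omega), semS, if_pos (show (xsg n).k ≤ 1 from zero_le_one),
        xsg_pr (by omega) h1, if_pos rfl, Nat.xor_assoc]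

theorem sem_PP1 (m : ℕ) (Q : Prog) (f : ℕ → ℝ) :
    sem (PP1 m Q) f = sem Q fun p => sgn (m.testBit p) * f p := by
  unfold PP1
  cases h : Nat.beq m 0
  · rw [cnd_false, sem]
    congr 1
    funext p
    by_cases h : m.testBit p = true <;> simp [semS, Sg.lo, sgn, h]
  · rw [Nat.eq_of_beq_eq_true h]; simp [sgn]

theorem sem_PPg (x : ℕ) (s : Bool) (f : ℕ → ℝ) (j : κ) :
    sem (PPg x s) f j = sgn s * (sg (x / 4096) (px x j) * f (px x j)) := by
  rw [PPg, sem_PP1, sem_xsA x le_rfl _ j.2, show j.1 ^^^ x % 2 ^ 12 = px x j from rfl,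
    zmA_spec _ _ le_rfl (px x j).2, ← mul_assoc]
  congr 2
  cases s
  · simp
  · rw [cnd_true, tb_ones, decide_eq_true (px x j).2]

/-! ### the check -/

theorem cl_enc {y : Λ} (hb : Bd (y : V)) {c : ℕ} (hc : c < 2 ^ 24)
    (h : ∀ l < 24, ub l (enc y) = Nat.land (Nat.shiftRight c l) 1) : cl y = c :=
  eq_of_bits (cl_lt y) hc fun l hl => by
    have h1 := dt_enc (bd_lv (us_chk l hl).1) hb
    have h2 : dt (us l) (enc y) >>> 3 &&& 1 = c >>> l &&& 1 := h l hl
    rw [enc_lv (us_chk l hl).1] at h1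
    rw [Nat.and_one_is_mod, Nat.and_one_is_mod, Nat.shiftRight_eq_div_pow, Nat.shiftRight_eq_div_pow] at h2
    rw [testBit_cl y hl, pb, uu, Nat.testBit_eq_decide_div_mod_eq, decide_eq_decide, ← h2]
    omega

def E8c (j : ℕ) : ℕ := Nat.add Z0 (Nat.shiftLeft 8 (Nat.mul 17 j))
theorem E8c_chk : ∀ j < 24, enc (e8 (gE.pt j) : V) = E8c j := by decide +kernel
def WT : ℕ := nat_lit 0x800200010000800040002000100008000400020001000080004000200010000800040002000100008000400020001000100004000040008000c0004000200010000800040002000100008000400020001000080004000200010000800040002000100008000400020000200040004000300010000800040002000100008000400020001000080004000200010000800040002000100008000400020001000010002000200010000c0004000200010000800040002000100008000400020001000080004000200010000800040002000100008000080010001000080004000300010000800040002000100008000400020001000080004000200010000800040002000100008000400004000800080004000200010000c0004000200010000800040002000100008000400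020001000080004000200010000800040002000020004000400020001000080004000300010000800040002000100008000400020001000080004000200010000800040002000100001000200020001000080004000200010000c0004000200010000800040002000100008000400020001000080004000200010000800008001000100008000400020001000080004000300010000800040002000100008000400020001000080004000200010000800040000400080008000400020001000080004000200010000c0004000200010000800040002000100008000400020001000080004000200002000400040002000100008000400020001000080004000300010000800040002000100008000400020001000080004000200010000100020002000100008000400020001000080004000200010000c0004000200010000800040002000100008000400020001000080000800140012000900048002400120009000480024001200090004800240012000900048002400120009000480024001200090004800040010000a0004000200008000800040002000100008000400020000c00080005000200010000a000400030000c000a00030001800020008000400028001000080004000200010000800020002000100006000300018001400080005000280010000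6000400020001800010004000200010000a00040002000100008000400020001000080004000280014000a0005000200014000a000400028001000080000800200010000800040002800100008000400020001000080004000200010000a000500028001400080005000280010000a00040000400100008000400020001000060004000200010000800040002000100008000200028000c000a000500020000c000a0006000180002000800040002000100008000400028001000080004000200010000a00040002800080006000400018000c000a000400030000c0001000400020001000080004000200010000a000400020001000080005000280014000a0004000200010000a0004000200014000a00008002000100008000400020001000080004000280010000800040002800140008000500028001400080004000200014000a0004000040010000800040002000100004000400020001000060004000200010000a000300020001400060005000200010000c0005000180002000800040002000100008000400020001000080004000280010000a000400020001400080004000280014000a0005000280010000100040002000100008000400020001000080004000200010000a000400028001000080005000200010000a0005000280014000a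
/-- codes of small lattice vectors of class `2 ^ k` -/
def ws (k : ℕ) : ℕ := fld WT (nat_lit 425) m425 k
theorem ws_chk : ∀ k < 24, inL (ws k) = 0 ∧ dt (ws k) (ws k) ≤ 2128 ∧
    ∀ l < 24, ub l (ws k) = Nat.land (Nat.shiftRight (2 ^ k) l) 1 := by decide +kernel
theorem cl_ws {k : ℕ} (hk : k < 24) : cl (lv (ws k)) = 2 ^ k :=
  cl_enc (bd_lv (ws_chk k hk).1) (Nat.pow_lt_pow_right (by norm_num) hk) fun l hl => by
    rw [enc_lv (ws_chk k hk).1]; exact (ws_chk k hk).2.2 l hl

def Gen.pA (g : Gen) : Prog :=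
  (g.r1 ++ g.r2).map (liftR 24 false) ++ ((g.r1 ++ g.r2).map (liftC 24 false) ++ dbs 576 (g.e - 2 * g.er))
def Gen.okW (g : Gen) : Bool :=
  and (and (and (wf 24 g.r1) (wf 24 g.r2)) (and (wf 4096 g.c) (wf 4096 g.pi)))
    (and (and (and (mono g.pi) (mono g.m)) (and (wf 98304 g.m) (wf 98304 (g.m ++ dbs 98304 g.e))))
      (and (and (wf 576 g.pA) (wf 197184 (mkP g)))
        (and (and (Nat.ble (2 * g.er) g.e) (Nat.ble (g.er + g.ec) g.e)) (Nat.ble g.t 12))))
def okR1 (er Y : ℕ) (xs : List ℕ) : Bool :=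
  frc xs (sq1 Y (allLt 24 fun i => decide (8 * vz xs i = 2 ^ er * ((dg Y i : ℤ) - 8))))
noncomputable def okY1 (Y y : ℕ) : Bool :=
  sq1 Y (and (Nat.ble y 16777215) (allLt 24 fun l => Nat.beq (ub l Y) (Nat.land (Nat.shiftRight y l) 1)))
noncomputable def Gen.okR (g : Gen) (KM : ℕ) : Bool :=
  sq1 KM (and (and (Nat.beq (certG KM) 0) (Nat.beq g.ys.length 24))
    (and (allLt 24 fun j => okR1 g.er (mv KM (E8c j)) (run (g.r1 ++ g.r2) [Nat.shiftLeft 1 j, 0]))
      (allLt 24 fun k => okY1 (mv KM (ws k)) (g.ys.getD k 0))))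
def okC1 (t : ℕ) (π A B Q1 Q2 : Prog) : Bool :=
  and (and (wf 4096 A) (wf 4096 B)) (and (btL 4096 12 t Q1 Q2) (btC 4096 12 t Q1 Q2 0 (2 ^ t)))
def okC2 (g : Gen) (A B : Prog) : Bool :=
  okC1 g.t g.pi A B (g.pi ++ (A ++ g.c)) (g.pi ++ (g.c ++ B))
/-- the test for the `k`-th basic Pauli matrix -/
def Gen.okC (g : Gen) (k : ℕ) : Bool :=
  okC2 g (PPg (Nat.shiftLeft 1 k) false) (PPg (g.ys.getD k 0) (g.ss.testBit k))
def okN1 (ec : ℕ) (xs : List ℕ) : Bool := frc xs (decide (vz xs 0 = 4 ^ ec))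
def Gen.okN (g : Gen) : Bool := okN1 g.ec (runF (g.c ++ g.c.reverse) [1, 0])
def okM2 (m : Prog) (S : List ℕ) : Bool :=
  frc S (and (eqL S.tail CPL) (Nat.beq (Nat.land (Nat.xor (S.headD 0) (runT m 0)) VM) 0))
def okM1 (g : Gen) (S : List ℕ) : Bool := frc S (okM2 g.m (imgS g.ys g.ss (0 :: S)))
def Gen.okM (g : Gen) : Bool := and (Nat.beq (runB g.m VM) VM) (okM1 g (lmap (runB g.m) CPL))

/-- the certificate check -/
noncomputable def Gen.ok (g : Gen) : Bool :=
  and (and g.okW (g.okR (genK g.C))) (and (and (allLt 24 g.okC) g.okN) g.okM)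

theorem Gen.ok_of {g : Gen} (h1 : g.okW = true) (h2 : g.okR (genK g.C) = true)
    (h3 : ∀ k < 24, g.okC k = true) (h4 : g.okN = true) (h5 : g.okM = true) : g.ok = true := by
  simp only [Gen.ok, h1, h2, allLt_iff.2 h3, h4, h5, Bool.and_self]

theorem vz_ind (j p : ℕ) : (vz [Nat.shiftLeft 1 j, 0] p : ℝ) = Pi.single (M := fun _ => ℝ) j 1 p := by
  have : (Nat.shiftLeft 1 j).testBit p = decide (j = p) := by
    change (1 <<< j).testBit p = _
    rw [Nat.one_shiftLeft, Nat.testBit_two_pow]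
  rw [vz_cons2, this, Pi.single_apply]
  by_cases h : j = p <;> simp [h, eq_comm]

theorem okR_spec {g : Gen} {KM : ℕ} (hw : wf 24 (g.r1 ++ g.r2) = true) (h : g.okR KM = true) :
    g.ys.length = 24 ∧ (∀ k < 24, cl (ge KM • ug k) = g.ys.getD k 0) ∧ ∀ (f : ℕ → ℝ), ∀ i < 24,
      sem (g.r1 ++ g.r2) f i = 2 ^ g.er * ∑ j ∈ range 24, mat (ge KM) (gE.pt i) (gE.pt j) * f j := by
  simp only [Gen.okR, okR1, okY1, sq1_eq, frc_eq, Bool.and_eq_true, Nat.beq_eq, allLt_iff,
    decide_eq_true_eq, Nat.ble_eq] at h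
  obtain ⟨⟨h1, h2⟩, h3, h4⟩ := h
  have hr := rep_ge h1
  refine ⟨h2, fun k hk => ?_, fun f i hi => ?_⟩
  · have h5 : sqNorm (lv (ws k) : V) ≤ 80 := by
      rw [norm_lv (ws_chk _ hk).1]
      have := (ws_chk _ hk).2.1
      omega
    rw [cl_smul _ ((cl_ug hk).trans (cl_ws hk).symm)]
    refine cl_enc (bd_of_norm (by rwa [norm_smul'])) (by have := (h4 k hk).1; omega) fun l hl => ?_
    rw [← hr.mv_enc h5, enc_lv (ws_chk _ hk).1]
    exact (h4 k hk).2 l hl
  · rw [sem_matrix hw f hi, mul_sum]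
    refine sum_congr rfl fun j hj => ?_
    have hj := mem_range.1 hj
    have h5 : sqNorm (e8 (gE.pt j) : V) ≤ 80 := by rw [norm_e8]; norm_num
    have h6 := congrArg (Int.cast : ℤ → ℝ) (h3 j hj i hi)
    have h7 : ((ge KM • e8 (gE.pt j) : Λ) : V) (gE.pt i) = (dg (mv KM (E8c j)) i : ℤ) - 8 := by
      rw [← E8c_chk j hj, hr.mv_enc h5]
      conv_lhs => rw [← (bd_of_norm (by rwa [norm_smul']) : Bd ((ge KM • e8 (gE.pt j) : Λ) : V)).vec_enc]
      rw [Lee.vec, gE.ix_pt i hi]
    rw [← h7, Int.cast_mul, vz_run hw, funext (vz_ind j)] at h6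
    push_cast at h6
    rw [mat]
    linear_combination f j / 8 * h6

/-- the matrix of a program on 4096 addresses -/
noncomputable def cM (c : Prog) (ec : ℕ) : Matrix κ κ ℝ :=
  Matrix.of fun l m => sem c (Pi.single (m : ℕ) 1) l / 2 ^ ec

theorem sem_cM {c : Prog} (h : wf 4096 c = true) (ec : ℕ) (f : ℕ → ℝ) (l : κ) :
    sem c f l = 2 ^ ec * ∑ m : κ, cM c ec l m * f m := by
  rw [sem_matrix h f l.2, ← Fin.sum_univ_eq_sum_range (fun q => f q * sem c (Pi.single q 1) l), mul_sum]
  refine sum_congr rfl fun m _ => ?_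
  rw [cM, of_apply]; field_simp

theorem okC_spec {g : Gen} (hc : wf 4096 g.c = true) (hp : wf 4096 g.pi = true) (hm : mono g.pi = true)
    (ht : g.t ≤ 12) {k : ℕ} (h : g.okC k = true) : cM g.c g.ec * P (2 ^ k) =
      sgn (g.ss.testBit k) • (P (g.ys.getD k 0) * cM g.c g.ec) := by
  simp only [Gen.okC, okC2, okC1, Bool.and_eq_true] at h
  ext l m
  have h1 := congrFun (bt_spec (by norm_num) ht hp hm (wf_append.2 ⟨h.1.1, hc⟩) (wf_append.2 ⟨hc, h.1.2⟩)
    h.2.1 h.2.2 (f := Pi.single (m : ℕ) 1) fun p hp => Pi.single_eq_of_ne (by omega) _) l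
  rw [sem_append, sem_append, sem_cM hc g.ec, sem_PPg,
    show Nat.shiftLeft 1 k = 2 ^ k from Nat.one_shiftLeft k] at h1
  simp only [sem_PPg] at h1
  rw [Matrix.smul_apply, P_mul_apply, smul_eq_mul, cM, of_apply, Matrix.mul_apply, ← cM]
  rw [mul_div_assoc', mul_div_assoc', ← h1, mul_div_cancel_left₀ _ (by positivity)]
  refine sum_congr rfl fun j _ => ?_
  rw [P_apply, Pi.single_apply, if_congr (show (px (2 ^ k) j : ℕ) = m ↔ j = px (2 ^ k) m by
    rw [eq_px_comm, Fin.ext_iff, eq_comm]) rfl rfl]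
  split_ifs with e
  · rw [e, px_px]; simp [sgn]
  · simp

theorem okN_spec {g : Gen} (hc : wf 4096 g.c = true) (h : g.okN = true) :
    ∑ j, cM g.c g.ec j 0 ^ 2 = 1 := by
  simp only [Gen.okN, okN1, frc_eq, decide_eq_true_eq, runF_eq] at h
  have h1 := congrArg (Int.cast : ℤ → ℝ) h
  rw [vz_run (wf_append.2 ⟨hc, wf_reverse hc⟩), sem_append,
    show (fun q => (vz [1, 0] q : ℝ)) = Pi.single 0 1 from funext (vz_ind 0)] at h1
  have h2 := sem_adj hc (Pi.single 0 1) (sem g.c (Pi.single 0 1))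
  rw [sum_eq_single 0 (s := range 4096) (f := fun p => Pi.single (M := fun _ => ℝ) 0 1 p * _)
    (fun p _ hp => by rw [Pi.single_eq_of_ne hp, zero_mul]) (fun h => absurd (mem_range.2 (by norm_num)) h),
    h1, ← Fin.sum_univ_eq_sum_range (fun p => sem g.c (Pi.single 0 1) p * sem g.c (Pi.single 0 1) p)] at h2
  simp only [cM, of_apply, div_pow, ← sum_div, sq (sem _ _ _)]
  rw [show ((0 : κ) : ℕ) = 0 from rfl, h2, ← pow_mul, mul_comm g.ec, pow_mul]
  norm_num

theorem CPL_len : CPL.length = 24 := rfl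

theorem okM_spec {g : Gen} {p : Ht} (t : Tr p g.ys g.ss) (hw : wf 98304 g.m = true)
    (hm : mono g.m = true) (h : g.okM = true) (v : VV) {q : ℕ} (hq : q < 98304) :
    sem g.m (fun q => crd v (576 + q)) q = crd (rho p • v : VV) (576 + q) := by
  simp only [Gen.okM, okM1, okM2, frc_eq, Bool.and_eq_true, Nat.beq_eq] at h
  obtain ⟨h1, h2, h3⟩ := h
  have h4 : VM.testBit (src g.m q) = VM.testBit q := by rw [← tb_runB hw, h1]
  rw [sem_mono hm, crd_M _ hq, crd_M _ (src_lt hw hq), h4]
  cases hv : VM.testBit q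
  · simp
  rw [hv] at h4
  obtain ⟨a1, a2⟩ := (imgS_spec t (S := 0 :: lmap (runB g.m) CPL)
    (by rw [List.length_cons, lmap_eq, List.length_map, CPL_len])).2 q (rq (src g.m q))
    (by rw [cl_rq h4, List.tail_cons, vn_map _ _ _ _ fun x _ => tb_runB hw x q, cp])
  rw [eqL_spec h2, ← cp, ← cl_rq hv] at a1
  have a3 := a2.mc v.1.2.1
  have a4 := congrArg (·.testBit q) h3
  simp only [tb_and, tb_xor, tb_runT hw, hv, Nat.zero_testBit, Bool.false_xor, Bool.and_true] at a4
  rw [mc, PL_congr a1, ← mc, List.headD_cons, Nat.zero_testBit, bne_eq_false_iff_eq.1 a4] at a3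
  rw [if_pos rfl, if_pos rfl, rho_smul, act_apply]
  cases hs : sb g.m q <;> simp only [hs, sgn] at a3 ⊢ <;> simp at a3 ⊢ <;> linarith

theorem Gen.spec' {g : Gen} (h : g.ok = true) :
    ∃ p : Ht, (Impl (rho p) (mkP g) g.e ∧ Tr p g.ys g.ss) ∧ (p.1.2 : Matrix κ κ ℝ) = cM g.c g.ec ∧
      ∀ (f : ℕ → ℝ), ∀ i < 24,
        sem (g.r1 ++ g.r2) f i = 2 ^ g.er * ∑ j ∈ range 24, mat p.1.1 (gE.pt i) (gE.pt j) * f j := by
  simp only [Gen.ok, Gen.okW, Bool.and_eq_true, Nat.ble_eq, allLt_iff] at h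
  obtain ⟨⟨⟨⟨⟨w1, w2⟩, wc, wp⟩, ⟨⟨mp, mm⟩, wm, wm'⟩, ⟨wa, wg⟩, ⟨e1, e2⟩, ht⟩, hR⟩, ⟨hC, hN⟩, hM⟩ := h
  have w12 := wf_append.2 ⟨w1, w2⟩
  obtain ⟨r1, r2, r3⟩ := okR_spec w12 hR
  obtain ⟨p, p1, p2⟩ := mem_of_gen (ge (genK g.C)) (cM g.c g.ec) g.ss.testBit (fun k hk => by
    rw [PL, r2 k hk]; exact okC_spec wc wp mp ht (hC k hk)) (okN_spec wc hN)
  have t : Tr p g.ys g.ss := ⟨r1, fun k hk => ⟨p1 ▸ r2 k hk, by
    have := OG.mul_tr p.1.2
    rw [p2] at this ⊢
    rw [okC_spec wc wp mp ht (hC k hk), Matrix.smul_mul, Matrix.mul_assoc, this, Matrix.mul_one]⟩⟩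
  rw [← p1] at r3
  refine ⟨p, ⟨⟨wg, fun v q => ?_⟩, t⟩, p2, r3⟩
  rcases lt_or_ge q 576 with h1 | h1
  · obtain ⟨i, j, hi, hj, rfl⟩ : ∃ i j, i < 24 ∧ j < 24 ∧ q = i * 24 + j :=
      ⟨q / 24, q % 24, by omega, by omega, by omega⟩
    refine ((sim_merge 576 g.sc1 wa _).1 _ (crd v) (fun _ _ => rfl) _ h1).trans ?_
    rw [Gen.pA, sem_append, sem_append, sem_dbs _ _ _ h1, sim_mapC hi false w12 _ hj fun j hj =>
      sim_mapR hj false w12 _ hi (f := fun i => crd v (i * 24 + j)) fun _ _ => rfl, r3 _ j hj,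
      crd_A _ hi hj, rho_smul, act_apply,
      show (2 : ℝ) ^ g.e = 2 ^ (g.e - 2 * g.er) * (2 ^ g.er * 2 ^ g.er) by
        rw [← pow_add, ← pow_add]; congr 1; omega, mul_assoc, mul_assoc]
    congr 2
    simp only [Matrix.mul_apply, sum_pt, transpose_apply]
    rw [mul_sum]
    refine sum_congr rfl fun k hk => ?_
    rw [r3 _ i hi, sum_congr rfl fun l hl => by rw [crd_A _ (mem_range.1 hl) (mem_range.1 hk)]]
    ring
  obtain ⟨q, rfl⟩ := Nat.exists_eq_add_of_le h1
  rcases lt_or_ge q 98304 with h2 | h2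
  · refine ((sim_merge 576 g.sc1 wa _).2 _ (fun q => crd v (576 + q)) (fun _ _ => rfl) _ trivial).trans ?_
    refine ((sim_merge 98304 g.sc2 wm' _).1 _ (fun q => crd v (576 + q)) (fun _ _ => rfl) _ h2).trans ?_
    rw [sem_append, sem_dbs _ _ _ h2, okM_spec t wm mm hM v h2]
  obtain ⟨q, rfl⟩ := Nat.exists_eq_add_of_le h2
  rcases lt_or_ge q 98304 with h3 | h3
  · obtain ⟨i, l, hi, rfl⟩ : ∃ (i : ℕ) (l : κ), i < 24 ∧ q = i * 4096 + l :=
      ⟨q / 4096, ⟨q % 4096, by omega⟩, by omega, by simp only; omega⟩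
    refine ((sim_merge 576 g.sc1 wa _).2 _ (fun q => crd v (576 + q)) (fun _ _ => rfl) _ trivial).trans ?_
    refine ((sim_merge 98304 g.sc2 wm' _).2 _ (fun q => crd v (576 + (98304 + q))) (fun _ _ => rfl) _
      trivial).trans ?_
    rw [sem_append, sem_append, sem_append, sem_dbs _ _ _ h3, sim_mapR l.2 true w2 _ hi
      (f := fun i => ∑ m : κ, 2 ^ g.ec * cM g.c g.ec l m *
        sem g.r1 (fun j => crd v (576 + (98304 + (j * 4096 + m)))) i) fun i hi => by
          rw [sim_mapC hi true wc _ l.2 (f := fun m =>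
            sem g.r1 (fun j => crd v (576 + (98304 + (j * 4096 + m)))) i) fun m hm =>
              sim_mapR hm true w1 _ hi fun _ _ => rfl, sem_cM wc g.ec, mul_sum]
          simp only [mul_assoc], sem_sum, crd_W _ hi, rho_smul, act_apply, p2,
      show (2 : ℝ) ^ g.e = 2 ^ (g.e - g.er - g.ec) * (2 ^ g.er * 2 ^ g.ec) by
        rw [← pow_add, ← pow_add]; congr 1; omega, mul_assoc]
    refine congrArg (_ * ·) ?_
    change _ = _ * (mat p.1.1 * v.1.2.2 * (cM g.c g.ec)ᵀ) (gE.pt i) l
    rw [Matrix.mul_apply, mul_sum]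
    refine sum_congr rfl fun m _ => ?_
    rw [← sem_append, r3 _ i hi, Matrix.mul_apply, sum_pt, transpose_apply,
      sum_congr rfl fun j hj => by rw [crd_W _ (mem_range.1 hj)]]
    ring
  · rw [sem_out wg _ (by omega), (good_crd v).out _ (by omega), (good_crd _).out _ (by omega), mul_zero]

theorem Gen.spec {g : Gen} (h : g.ok = true) :
    ∃ p : Ht, Impl (rho p) (mkP g) g.e ∧ Tr p g.ys g.ss := (Gen.spec' h).imp fun _ h => h.1

theorem cM_PPg (x : ℕ) (s : Bool) : cM (PPg x s) 0 = sgn s • P x := by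
  ext l m
  rw [cM, of_apply, sem_PPg, pow_zero, div_one, Matrix.smul_apply, P_apply, Pi.single_apply,
    if_congr (show (px x l : ℕ) = m ↔ l = px x m by rw [eq_px_comm, Fin.ext_iff, eq_comm]) rfl rfl]
  split_ifs with e
  · rw [e, px_px, mul_one, smul_eq_mul]
  · simp

/-- elements of the extraspecial group -/
theorem Gen.specQ {g : Gen} (h : g.ok = true) {x : Λ} {s : Bool} (h1 : g.r1 ++ g.r2 = []) (h2 : g.er = 0)
    (h3 : g.c = PPg (cl x) s) (h4 : g.ec = 0) :
    Impl (rho (qe x s)) (mkP g) g.e ∧ Tr (qe x s) g.ys g.ss := by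
  obtain ⟨p, a1, a2, a3⟩ := Gen.spec' h
  have : p = qe x s := Subtype.ext (Prod.ext (mat_inj (by
    ext a b
    have := a3 (Pi.single (gE.ix b) 1) _ (gE.ix_lt a)
    rw [h1, h2, sum_eq_single (gE.ix b) (fun j _ hj => by rw [Pi.single_eq_of_ne hj, mul_zero])
      (fun h => absurd (mem_range.2 (gE.ix_lt b)) h), gE.pt_ix, gE.pt_ix] at this
    simp only [sem, pow_zero, one_mul, Pi.single_eq_same, mul_one] at this
    rw [← this, show (qe x s).1.1 = 1 from rfl, mat_one, Pi.single_apply, one_apply]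
    exact if_congr ⟨fun e => by rw [← gE.pt_ix a, e, gE.pt_ix], fun e => by rw [e]⟩ rfl rfl))
      (Subtype.ext (by rw [a2, h3, h4, cM_PPg]; rfl)))
  exact this ▸ a1

end Cfsg.Agent.Mo
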