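import Cfsg.Agent.Mo.Inv2

/-! Certificate data. -/

namespace Cfsg.Agent.Mo.Iv

def Ca : SL := [(0, Int.ofNat 16)]
def La0 : List PC := [⟨0, [(0, Int.ofNat 16)], [], []⟩,
  ⟨1, [(577, Int.ofNat 8), (600, Int.negSucc 7)], [], []⟩,
  ⟨24, [(577, Int.ofNat 8), (600, Int.negSucc 7)], [], []⟩,
  ⟨25, [(25, Int.ofNat 16)], [], []⟩,
  ⟨26, [(602, Int.ofNat 8), (625, Int.negSucc 7)], [], []⟩,
  ⟨577, [(1, Int.ofNat 8), (24, Int.ofNat 8), (577, Int.ofNat 8), (600, Int.ofNat 8)], [], []⟩,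
  ⟨602, [(26, Int.ofNat 8), (49, Int.ofNat 8), (602, Int.ofNat 8), (625, Int.ofNat 8)], [], []⟩,
  ⟨1152, [(1152, Int.ofNat 2), (1153, Int.negSucc 1), (1154, Int.negSucc 1), (1155, Int.negSucc 1), (1156, Int.negSucc 1), (1157, Int.ofNat 2), (1158, Int.ofNat 2), (1159, Int.ofNat 2), (1160, Int.negSucc 1), (1161, Int.ofNat 2), (1162, Int.ofNat 2), (1163, Int.ofNat 2), (1164, Int.negSucc 1), (1165, Int.ofNat 2), (1166, Int.ofNat 2), (1167, Int.ofNat 2), (1168, Int.negSucc 1), (1169, Int.ofNat 2), (1170, Int.ofNat 2), (1171, Int.ofNat 2), (1172, Int.ofNat 2), (1173, Int.negSucc 1), (1174, Int.negSucc 1), (1175, Int.negSucc 1), (1176, Int.ofNat 2), (1177, Int.negSucc 1), (1178, Int.negSucc 1), (1179, Int.negSucc 1), (1180, Int.ofNat 2), (1181, Int.negSucc 1), (1182, Int.negSucc 1), (1183, Int.negSucc 1), (1184, Int.ofNat 2), (1185, Int.negSucc 1), (1186, Int.negSucc 1), (1187, Int.negSucc 1), (1188, Int.negSucc 1), (1189,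 Int.ofNat 2), (1190, Int.ofNat 2), (1191, Int.ofNat 2), (1192, Int.negSucc 1), (1193, Int.ofNat 2), (1194, Int.ofNat 2), (1195, Int.ofNat 2), (1196, Int.negSucc 1), (1197, Int.ofNat 2), (1198, Int.ofNat 2), (1199, Int.ofNat 2), (1200, Int.ofNat 2), (1201, Int.negSucc 1), (1202, Int.negSucc 1), (1203, Int.negSucc 1), (1204, Int.negSucc 1), (1205, Int.ofNat 2), (1206, Int.ofNat 2), (1207, Int.ofNat 2), (1208, Int.negSucc 1), (1209, Int.ofNat 2), (1210, Int.ofNat 2), (1211, Int.ofNat 2), (1212, Int.negSucc 1), (1213, Int.ofNat 2), (1214, Int.ofNat 2), (1215, Int.ofNat 2)], [], []⟩]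
theorem pa0 : pairs 0 Ca La0 = true := by decide +kernel
def La1 : List PC := [⟨1216, [(1216, Int.ofNat 2), (1217, Int.negSucc 1), (1218, Int.negSucc 1), (1219, Int.negSucc 1), (1220, Int.negSucc 1), (1221, Int.ofNat 2), (1222, Int.ofNat 2), (1223, Int.ofNat 2), (1224, Int.negSucc 1), (1225, Int.ofNat 2), (1226, Int.ofNat 2), (1227, Int.ofNat 2), (1228, Int.negSucc 1), (1229, Int.ofNat 2), (1230, Int.ofNat 2), (1231, Int.ofNat 2), (1232, Int.negSucc 1), (1233, Int.ofNat 2), (1234, Int.ofNat 2), (1235, Int.ofNat 2), (1236, Int.ofNat 2), (1237, Int.negSucc 1), (1238, Int.negSucc 1), (1239, Int.negSucc 1), (1240, Int.ofNat 2), (1241, Int.negSucc 1), (1242, Int.negSucc 1), (1243, Int.negSucc 1), (1244, Int.ofNat 2), (1245, Int.negSucc 1), (1246, Int.negSucc 1), (1247, Int.negSucc 1), (1248, Int.ofNat 2), (1249, Int.negSucc 1), (1250, Int.negSucc 1), (1251, Int.negSucc 1), (1252, Int.negSucc 1), (1253, Int.ofNat 2), (1254,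 Int.ofNat 2), (1255, Int.ofNat 2), (1256, Int.negSucc 1), (1257, Int.ofNat 2), (1258, Int.ofNat 2), (1259, Int.ofNat 2), (1260, Int.negSucc 1), (1261, Int.ofNat 2), (1262, Int.ofNat 2), (1263, Int.ofNat 2), (1264, Int.ofNat 2), (1265, Int.negSucc 1), (1266, Int.negSucc 1), (1267, Int.negSucc 1), (1268, Int.negSucc 1), (1269, Int.ofNat 2), (1270, Int.ofNat 2), (1271, Int.ofNat 2), (1272, Int.negSucc 1), (1273, Int.ofNat 2), (1274, Int.ofNat 2), (1275, Int.ofNat 2), (1276, Int.negSucc 1), (1277, Int.ofNat 2), (1278, Int.ofNat 2), (1279, Int.ofNat 2)], [], []⟩,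
  ⟨2624, [(100928, Int.negSucc 15)], [], []⟩,
  ⟨6720, [(105024, Int.negSucc 15)], [], []⟩,
  ⟨98880, [(2624, Int.negSucc 15)], [], []⟩,
  ⟨100928, [(98880, Int.ofNat 16)], [], []⟩,
  ⟨102976, [(6720, Int.negSucc 15)], [], []⟩,
  ⟨105024, [(102976, Int.ofNat 16)], [], []⟩]
theorem pa1 : pairs 0 Ca La1 = true := by decide +kernel
theorem ca : cov [[6], [2], [3], [4], [5], [8], [0], [1], [7], [9], [10], [35, 39], [36, 37, 40], [35, 39], [36, 38, 37], [35, 39], [39, 37, 38], [35, 39], [36, 37, 40], [35, 39], [39, 37, 35], [35, 39], [35, 39], [35, 39], [39, 37, 38], [24], [25], [27], [28], [26], [29], [31], [32], [30], [33], [34], [35, 39]] (bt1 0) (Nat.lor (seeds La0) (seeds La1)) (fun x' S' => and (sub (bt1 0) x') (sub (ones 197184) S')) = true := by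
  decide +kernel
theorem ia : Inv (bt1 0) (ones 197184) := cov_sub (((pairs_spec pa0).2).or' (pairs_spec pa1).2) ca

end Cfsg.Agent.Mo.Iv
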