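import Cfsg.Agent.Mo.Inv2

/-! Certificate data. -/

namespace Cfsg.Agent.Mo.Iv

def Cc : SL := [(1, Int.ofNat 8), (24, Int.ofNat 8), (577, Int.ofNat 8), (600, Int.negSucc 7)]
def Lc0 : List PC := [⟨0, [(0, Int.ofNat 16)], [], []⟩,
  ⟨1, [(577, Int.ofNat 8), (600, Int.negSucc 7)], [], []⟩,
  ⟨2, [(578, Int.ofNat 8), (624, Int.negSucc 7)], [], [27, 50]⟩,
  ⟨48, [(578, Int.ofNat 8), (624, Int.negSucc 7)], [], [27, 50]⟩,
  ⟨50, [(50, Int.ofNat 16)], [], []⟩,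
  ⟨51, [(627, Int.ofNat 8), (650, Int.negSucc 7)], [], []⟩,
  ⟨577, [(1, Int.ofNat 8), (24, Int.ofNat 8), (577, Int.ofNat 8), (600, Int.ofNat 8)], [], []⟩,
  ⟨578, [(2, Int.ofNat 8), (48, Int.ofNat 8), (578, Int.ofNat 8), (624, Int.ofNat 8)], [0, 0, 27, 50], [0, 0, 27, 50]⟩]
theorem pc0 : pairs 577 Cc Lc0 = true := by decide +kernel
def Lc1 : List PC := [⟨627, [(51, Int.ofNat 8), (74, Int.ofNat 8), (627, Int.ofNat 8), (650, Int.ofNat 8)], [], []⟩,
  ⟨1152, [(1152, Int.ofNat 2), (1153, Int.negSucc 1), (1154, Int.negSucc 1), (1155, Int.negSucc 1), (1156, Int.negSucc 1), (1157, Int.ofNat 2), (1158, Int.ofNat 2), (1159, Int.ofNat 2), (1160, Int.negSucc 1), (1161, Int.ofNat 2), (1162, Int.ofNat 2), (1163, Int.ofNat 2), (1164, Int.negSucc 1), (1165, Int.ofNat 2), (1166, Int.ofNat 2), (1167, Int.ofNat 2), (1168, Int.negSucc 1), (1169, Int.ofNat 2), (1170, Int.ofNat 2), (1171, Int.ofNat 2), (1172, Int.ofNat 2),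 (1173, Int.negSucc 1), (1174, Int.negSucc 1), (1175, Int.negSucc 1), (1176, Int.ofNat 2), (1177, Int.negSucc 1), (1178, Int.negSucc 1), (1179, Int.negSucc 1), (1180, Int.ofNat 2), (1181, Int.negSucc 1), (1182, Int.negSucc 1), (1183, Int.negSucc 1), (1184, Int.ofNat 2), (1185, Int.negSucc 1), (1186, Int.negSucc 1), (1187, Int.negSucc 1), (1188, Int.negSucc 1), (1189, Int.ofNat 2), (1190, Int.ofNat 2), (1191, Int.ofNat 2), (1192, Int.negSucc 1), (1193, Int.ofNat 2), (1194, Int.ofNat 2), (1195, Int.ofNat 2), (1196, Int.negSucc 1), (1197, Int.ofNat 2), (1198, Int.ofNat 2), (1199, Int.ofNat 2), (1200, Int.ofNat 2), (1201, Int.negSucc 1), (1202, Int.negSucc 1), (1203, Int.negSucc 1), (1204, Int.negSucc 1), (1205, Int.ofNat 2), (1206, Int.ofNat 2), (1207, Int.ofNat 2), (1208, Int.negSucc 1), (1209, Int.ofNat 2), (1210, Int.ofNat 2), (1211, Int.ofNat 2), (1212, Int.negSucc 1), (1213, Int.ofNat 2), (1214, Int.ofNat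 2), (1215, Int.ofNat 2)], [0, 0, 0, 578], [0, 0, 580, 579, 0, 0, 584, 583, 0, 0, 588, 587, 0, 0, 592, 591, 0, 0, 596, 595, 0, 0, 600, 599, 0, 0, 604, 603, 0, 0, 608, 607, 0, 0, 612, 611, 0, 0, 616, 615, 0, 0, 620, 619, 0, 0, 624, 623, 0, 0, 628, 627, 0, 0, 632, 631, 0, 0, 636, 635, 0, 0, 640, 639]⟩,
  ⟨1216, [(1216, Int.ofNat 2), (1217, Int.negSucc 1), (1218, Int.negSucc 1), (1219, Int.negSucc 1), (1220, Int.negSucc 1), (1221, Int.ofNat 2), (1222, Int.ofNat 2), (1223, Int.ofNat 2), (1224, Int.negSucc 1), (1225, Int.ofNat 2), (1226, Int.ofNat 2), (1227, Int.ofNat 2), (1228, Int.negSucc 1), (1229, Int.ofNat 2), (1230, Int.ofNat 2), (1231, Int.ofNat 2), (1232, Int.negSucc 1), (1233, Int.ofNat 2), (1234, Int.ofNat 2), (1235, Int.ofNat 2), (1236, Int.ofNat 2), (1237, Int.negSucc 1), (1238, Int.negSucc 1), (1239, Int.negSucc 1), (1240, Int.ofNat 2), (1241, Int.negSucc 1), (1242, Int.negSucc 1), (1243, Int.negSucc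 1), (1244, Int.ofNat 2), (1245, Int.negSucc 1), (1246, Int.negSucc 1), (1247, Int.negSucc 1), (1248, Int.ofNat 2), (1249, Int.negSucc 1), (1250, Int.negSucc 1), (1251, Int.negSucc 1), (1252, Int.negSucc 1), (1253, Int.ofNat 2), (1254, Int.ofNat 2), (1255, Int.ofNat 2), (1256, Int.negSucc 1), (1257, Int.ofNat 2), (1258, Int.ofNat 2), (1259, Int.ofNat 2), (1260, Int.negSucc 1), (1261, Int.ofNat 2), (1262, Int.ofNat 2), (1263, Int.ofNat 2), (1264, Int.ofNat 2), (1265, Int.negSucc 1), (1266, Int.negSucc 1), (1267, Int.negSucc 1), (1268, Int.negSucc 1), (1269, Int.ofNat 2), (1270, Int.ofNat 2), (1271, Int.ofNat 2), (1272, Int.negSucc 1), (1273, Int.ofNat 2), (1274, Int.ofNat 2), (1275, Int.ofNat 2), (1276, Int.negSucc 1), (1277, Int.ofNat 2), (1278, Int.ofNat 2), (1279, Int.ofNat 2)], [], []⟩,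
  ⟨1408, [(1408, Int.ofNat 2), (1409, Int.negSucc 1), (1410, Int.negSucc 1), (1411, Int.negSucc 1), (1412, Int.negSucc 1), (1413, Int.ofNat 2), (1414, Int.ofNat 2), (1415, Int.ofNat 2), (1416, Int.negSucc 1), (1417, Int.ofNat 2), (1418, Int.ofNat 2), (1419, Int.ofNat 2), (1420, Int.negSucc 1), (1421, Int.ofNat 2), (1422, Int.ofNat 2), (1423, Int.ofNat 2), (1424, Int.negSucc 1), (1425, Int.ofNat 2), (1426, Int.ofNat 2), (1427, Int.ofNat 2), (1428, Int.ofNat 2), (1429, Int.negSucc 1), (1430, Int.negSucc 1), (1431, Int.negSucc 1), (1432, Int.ofNat 2), (1433, Int.negSucc 1), (1434, Int.negSucc 1), (1435, Int.negSucc 1), (1436, Int.ofNat 2), (1437, Int.negSucc 1), (1438, Int.negSucc 1), (1439, Int.negSucc 1), (1440, Int.ofNat 2), (1441, Int.negSucc 1), (1442, Int.negSucc 1), (1443, Int.negSucc 1), (1444, Int.negSucc 1), (1445, Int.ofNat 2), (1446, Int.ofNat 2), (1447, Int.ofNat 2), (1448, Int.negSucc 1), (1449,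 Int.ofNat 2), (1450, Int.ofNat 2), (1451, Int.ofNat 2), (1452, Int.negSucc 1), (1453, Int.ofNat 2), (1454, Int.ofNat 2), (1455, Int.ofNat 2), (1456, Int.ofNat 2), (1457, Int.negSucc 1), (1458, Int.negSucc 1), (1459, Int.negSucc 1), (1460, Int.negSucc 1), (1461, Int.ofNat 2), (1462, Int.ofNat 2), (1463, Int.ofNat 2), (1464, Int.negSucc 1), (1465, Int.ofNat 2), (1466, Int.ofNat 2), (1467, Int.ofNat 2), (1468, Int.negSucc 1), (1469, Int.ofNat 2), (1470, Int.ofNat 2), (1471, Int.ofNat 2)], [], []⟩,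
  ⟨2624, [(100928, Int.negSucc 15)], [0, 0, 6145], []⟩,
  ⟨10816, [(109120, Int.negSucc 15)], [], []⟩,
  ⟨98880, [(2624, Int.negSucc 15)], [], [6145]⟩,
  ⟨98882, [(2626, Int.negSucc 15)], [], []⟩]
theorem pc1 : pairs 577 Cc Lc1 = true := by decide +kernel
def Lc2 : List PC := [⟨100928, [(98880, Int.ofNat 16)], [], []⟩,
  ⟨107072, [(10816, Int.negSucc 15)], [], []⟩,
  ⟨107074, [(10818, Int.ofNat 16)], [], []⟩,
  ⟨109120, [(107072, Int.ofNat 16)], [], []⟩]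
theorem pc2 : pairs 577 Cc Lc2 = true := by decide +kernel
theorem cc : cov [[3], [2], [4], [5], [7], [9], [0], [1], [6], [8], [10], [36, 38, 36, 36], [35, 38, 36, 39], [38, 38, 37, 35], [37, 36, 38, 36, 40], [35, 38, 36, 39], [38, 35, 38, 38], [38, 38, 37, 35], [35, 35, 38, 35], [37, 38, 40, 36], [36, 38, 36, 36], [24], [28], [32], [26], [33], [34], [25, 31], [25, 27], [25, 29], [25, 30], [38, 39, 37, 40], [35, 35, 38, 35]] (bt1 577) (Nat.lor (Nat.lor (seeds Lc0) (seeds Lc1)) (seeds Lc2)) (fun x' S' => and (sub (bt1 577) x') (sub (ones 197184) S')) = true := by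
  decide +kernel
theorem ic : Inv (bt1 577) (ones 197184) := cov_sub ((((pairs_spec pc0).2).or' (pairs_spec pc1).2).or' (pairs_spec pc2).2) cc

end Cfsg.Agent.Mo.Iv
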