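import Cfsg.Agent.Mo.Inv2

/-! Certificate data. -/

namespace Cfsg.Agent.Mo.Iv

def Cd : SL := [(1152, Int.ofNat 2), (1153, Int.ofNat 2), (1154, Int.ofNat 2), (1155, Int.ofNat 2), (1156, Int.ofNat 2), (1157, Int.ofNat 2), (1158, Int.ofNat 2), (1159, Int.ofNat 2), (1160, Int.ofNat 2), (1161, Int.ofNat 2), (1162, Int.ofNat 2), (1163, Int.ofNat 2), (1164, Int.ofNat 2), (1165, Int.ofNat 2), (1166, Int.ofNat 2), (1167, Int.ofNat 2), (1168, Int.ofNat 2), (1169, Int.ofNat 2), (1170, Int.ofNat 2), (1171, Int.ofNat 2), (1172, Int.ofNat 2), (1173, Int.ofNat 2), (1174, Int.ofNat 2), (1175, Int.ofNat 2), (1176, Int.ofNat 2), (1177, Int.ofNat 2), (1178, Int.ofNat 2), (1179, Int.ofNat 2), (1180, Int.ofNat 2), (1181, Int.ofNat 2), (1182, Int.ofNat 2), (1183, Int.ofNat 2), (1184, Int.ofNat 2), (1185, Int.ofNat 2), (1186, Int.ofNat 2), (1187, Int.ofNat 2), (1188, Int.ofNat 2), (1189, Int.ofNat 2),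 (1190, Int.ofNat 2), (1191, Int.ofNat 2), (1192, Int.ofNat 2), (1193, Int.ofNat 2), (1194, Int.ofNat 2), (1195, Int.ofNat 2), (1196, Int.ofNat 2), (1197, Int.ofNat 2), (1198, Int.ofNat 2), (1199, Int.ofNat 2), (1200, Int.ofNat 2), (1201, Int.ofNat 2), (1202, Int.ofNat 2), (1203, Int.ofNat 2), (1204, Int.ofNat 2), (1205, Int.ofNat 2), (1206, Int.ofNat 2), (1207, Int.ofNat 2), (1208, Int.ofNat 2), (1209, Int.ofNat 2), (1210, Int.ofNat 2), (1211, Int.ofNat 2), (1212, Int.ofNat 2), (1213, Int.ofNat 2), (1214, Int.ofNat 2), (1215, Int.ofNat 2)]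
def Ld0 : List PC := [⟨0, [(0, Int.ofNat 16)], [], []⟩,
  ⟨1, [(577, Int.ofNat 8), (600, Int.negSucc 7)], [], [0, 578]⟩,
  ⟨5, [(581, Int.ofNat 8), (696, Int.negSucc 7)], [], []⟩,
  ⟨120, [(581, Int.ofNat 8), (696, Int.negSucc 7)], [], []⟩,
  ⟨125, [(125, Int.ofNat 16)], [], []⟩,
  ⟨126, [(702, Int.ofNat 8), (725, Int.negSucc 7)], [], []⟩,
  ⟨577, [(1, Int.ofNat 8), (24, Int.ofNat 8), (577, Int.ofNat 8), (600, Int.ofNat 8)], [0, 0, 580, 579, 0, 0, 584, 583, 0, 0, 588, 587, 0, 0, 592, 591, 0, 0, 596, 595, 0, 0, 600, 599, 0, 0, 604, 603, 0, 0, 608, 607, 0, 0, 612, 611, 0, 0, 616, 615, 0, 0, 620, 619, 0, 0, 624, 623, 0, 0, 628, 627, 0, 0, 632, 631, 0, 0, 636, 635, 0, 0, 640, 639], [0, 0, 0, 578]⟩,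
  ⟨581, [(5, Int.ofNat 8), (120, Int.ofNat 8), (581, Int.ofNat 8), (696, Int.ofNat 8)], [], []⟩]
theorem pd0 : pairs 1152 Cd Ld0 = true := by decide +kernel
def Ld1 : List PC := [⟨702, [(126, Int.ofNat 8), (149, Int.ofNat 8), (702, Int.ofNat 8), (725, Int.ofNat 8)], [], []⟩,
  ⟨1152, [(1152, Int.ofNat 2), (1153, Int.negSucc 1), (1154, Int.negSucc 1), (1155, Int.negSucc 1), (1156, Int.negSucc 1), (1157, Int.ofNat 2), (1158, Int.ofNat 2), (1159, Int.ofNat 2), (1160, Int.negSucc 1), (1161, Int.ofNat 2), (1162, Int.ofNat 2), (1163, Int.ofNat 2), (1164, Int.negSucc 1), (1165, Int.ofNat 2), (1166, Int.ofNat 2), (1167, Int.ofNat 2), (1168, Int.negSucc 1), (1169, Int.ofNat 2), (1170, Int.ofNat 2), (1171, Int.ofNat 2), (1172, Int.ofNat 2), (1173, Int.negSucc 1), (1174, Int.negSucc 1), (1175, Int.negSucc 1), (1176, Int.ofNat 2), (1177, Int.negSucc 1), (1178, Int.negSucc 1), (1179, Int.negSucc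 1), (1180, Int.ofNat 2), (1181, Int.negSucc 1), (1182, Int.negSucc 1), (1183, Int.negSucc 1), (1184, Int.ofNat 2), (1185, Int.negSucc 1), (1186, Int.negSucc 1), (1187, Int.negSucc 1), (1188, Int.negSucc 1), (1189, Int.ofNat 2), (1190, Int.ofNat 2), (1191, Int.ofNat 2), (1192, Int.negSucc 1), (1193, Int.ofNat 2), (1194, Int.ofNat 2), (1195, Int.ofNat 2), (1196, Int.negSucc 1), (1197, Int.ofNat 2), (1198, Int.ofNat 2), (1199, Int.ofNat 2), (1200, Int.ofNat 2), (1201, Int.negSucc 1), (1202, Int.negSucc 1), (1203, Int.negSucc 1), (1204, Int.negSucc 1), (1205, Int.ofNat 2), (1206, Int.ofNat 2), (1207, Int.ofNat 2), (1208, Int.negSucc 1), (1209, Int.ofNat 2), (1210, Int.ofNat 2), (1211, Int.ofNat 2), (1212, Int.negSucc 1), (1213, Int.ofNat 2), (1214, Int.ofNat 2), (1215, Int.ofNat 2)], [0, 25, 50, 49, 100, 0, 0, 0, 173, 0, 0, 0, 172, 0, 0, 0, 299, 0, 0, 0, 0, 171, 169, 170, 0, 75, 73, 74,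 0, 99, 97, 98, 0, 243, 241, 242, 296, 0, 0, 0, 292, 0, 0, 0, 293, 0, 0, 0, 0, 291, 289, 290, 248, 0, 0, 0, 244, 0, 0, 0, 245], [0, 25, 50, 49, 100, 0, 0, 0, 173, 0, 0, 0, 172, 0, 0, 0, 299, 0, 0, 0, 0, 171, 169, 170, 0, 75, 73, 74, 0, 99, 97, 98, 0, 243, 241, 242, 296, 0, 0, 0, 292, 0, 0, 0, 293, 0, 0, 0, 0, 291, 289, 290, 248, 0, 0, 0, 244, 0, 0, 0, 245]⟩,
  ⟨1216, [(1216, Int.ofNat 2), (1217, Int.negSucc 1), (1218, Int.negSucc 1), (1219, Int.negSucc 1), (1220, Int.negSucc 1), (1221, Int.ofNat 2), (1222, Int.ofNat 2), (1223, Int.ofNat 2), (1224, Int.negSucc 1), (1225, Int.ofNat 2), (1226, Int.ofNat 2), (1227, Int.ofNat 2), (1228, Int.negSucc 1), (1229, Int.ofNat 2), (1230, Int.ofNat 2), (1231, Int.ofNat 2), (1232, Int.negSucc 1), (1233, Int.ofNat 2), (1234, Int.ofNat 2), (1235, Int.ofNat 2), (1236, Int.ofNat 2), (1237, Int.negSucc 1), (1238, Int.negSucc 1), (1239, Int.negSucc 1),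 (1240, Int.ofNat 2), (1241, Int.negSucc 1), (1242, Int.negSucc 1), (1243, Int.negSucc 1), (1244, Int.ofNat 2), (1245, Int.negSucc 1), (1246, Int.negSucc 1), (1247, Int.negSucc 1), (1248, Int.ofNat 2), (1249, Int.negSucc 1), (1250, Int.negSucc 1), (1251, Int.negSucc 1), (1252, Int.negSucc 1), (1253, Int.ofNat 2), (1254, Int.ofNat 2), (1255, Int.ofNat 2), (1256, Int.negSucc 1), (1257, Int.ofNat 2), (1258, Int.ofNat 2), (1259, Int.ofNat 2), (1260, Int.negSucc 1), (1261, Int.ofNat 2), (1262, Int.ofNat 2), (1263, Int.ofNat 2), (1264, Int.ofNat 2), (1265, Int.negSucc 1), (1266, Int.negSucc 1), (1267, Int.negSucc 1), (1268, Int.negSucc 1), (1269, Int.ofNat 2), (1270, Int.ofNat 2), (1271, Int.ofNat 2), (1272, Int.negSucc 1), (1273, Int.ofNat 2), (1274, Int.ofNat 2), (1275, Int.ofNat 2), (1276, Int.negSucc 1), (1277, Int.ofNat 2), (1278, Int.ofNat 2), (1279, Int.ofNat 2)], [768, 0, 0, 0, 0,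 0, 705, 0, 0, 0, 0, 0, 0, 0, 0, 0, 708, 0, 0, 0, 0, 0, 765, 0, 0, 0, 0, 0, 0, 0, 0, 0, 0, 0, 738, 0, 735, 0, 0, 0, 0, 0, 0, 0, 0, 0, 0, 0, 0, 0, 734, 0, 739], [768, 0, 0, 0, 0, 0, 0, 0, 741, 0, 0, 0, 0, 0, 0, 0, 732, 0, 0, 0, 0, 0, 0, 0, 705, 0, 0, 0, 0, 0, 0, 0, 0, 0, 0, 0, 728, 0, 0, 0, 0, 0, 0, 0, 717, 0, 0, 0, 0, 0, 0, 0, 756, 0, 0, 0, 0, 0, 0, 0, 745]⟩,
  ⟨1472, [(1472, Int.ofNat 2), (1473, Int.negSucc 1), (1474, Int.negSucc 1), (1475, Int.negSucc 1), (1476, Int.negSucc 1), (1477, Int.ofNat 2), (1478, Int.ofNat 2), (1479, Int.ofNat 2), (1480, Int.negSucc 1), (1481, Int.ofNat 2), (1482, Int.ofNat 2), (1483, Int.ofNat 2), (1484, Int.negSucc 1), (1485, Int.ofNat 2), (1486, Int.ofNat 2), (1487, Int.ofNat 2), (1488, Int.negSucc 1), (1489, Int.ofNat 2), (1490, Int.ofNat 2), (1491, Int.ofNat 2), (1492, Int.ofNat 2), (1493, Int.negSucc 1), (1494, Int.negSucc 1), (1495, Int.negSucc 1),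 (1496, Int.ofNat 2), (1497, Int.negSucc 1), (1498, Int.negSucc 1), (1499, Int.negSucc 1), (1500, Int.ofNat 2), (1501, Int.negSucc 1), (1502, Int.negSucc 1), (1503, Int.negSucc 1), (1504, Int.ofNat 2), (1505, Int.negSucc 1), (1506, Int.negSucc 1), (1507, Int.negSucc 1), (1508, Int.negSucc 1), (1509, Int.ofNat 2), (1510, Int.ofNat 2), (1511, Int.ofNat 2), (1512, Int.negSucc 1), (1513, Int.ofNat 2), (1514, Int.ofNat 2), (1515, Int.ofNat 2), (1516, Int.negSucc 1), (1517, Int.ofNat 2), (1518, Int.ofNat 2), (1519, Int.ofNat 2), (1520, Int.ofNat 2), (1521, Int.negSucc 1), (1522, Int.negSucc 1), (1523, Int.negSucc 1), (1524, Int.negSucc 1), (1525, Int.ofNat 2), (1526, Int.ofNat 2), (1527, Int.ofNat 2), (1528, Int.negSucc 1), (1529, Int.ofNat 2), (1530, Int.ofNat 2), (1531, Int.ofNat 2), (1532, Int.negSucc 1), (1533, Int.ofNat 2), (1534, Int.ofNat 2), (1535, Int.ofNat 2)], [], []⟩,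
  ⟨2624, [(100928, Int.negSucc 15)], [0, 6146, 0, 10242, 0, 0, 0, 0, 0, 0, 0, 0, 0, 0, 0, 0, 0, 0, 0, 0, 0, 0, 30722, 0, 0, 0, 14338, 0, 0, 0, 18434, 0, 0, 0, 43010, 0, 0, 0, 0, 0, 0, 0, 0, 0, 0, 0, 0, 0, 0, 0, 51202], []⟩,
  ⟨17600, [(17600, Int.ofNat 2), (17601, Int.negSucc 1), (17602, Int.negSucc 1), (17603, Int.negSucc 1), (17604, Int.negSucc 1), (17605, Int.ofNat 2), (17606, Int.ofNat 2), (17607, Int.ofNat 2), (17608, Int.negSucc 1), (17609, Int.ofNat 2), (17610, Int.ofNat 2), (17611, Int.ofNat 2), (17612, Int.negSucc 1), (17613, Int.ofNat 2), (17614, Int.ofNat 2), (17615, Int.ofNat 2), (17616, Int.negSucc 1), (17617, Int.ofNat 2), (17618, Int.ofNat 2), (17619, Int.ofNat 2), (17620, Int.ofNat 2), (17621, Int.negSucc 1), (17622, Int.negSucc 1), (17623, Int.negSucc 1), (17624, Int.ofNat 2), (17625, Int.negSucc 1), (17626, Int.negSucc 1), (17627, Int.negSucc 1), (17628, Int.ofNat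 2), (17629, Int.negSucc 1), (17630, Int.negSucc 1), (17631, Int.negSucc 1), (17632, Int.ofNat 2), (17633, Int.negSucc 1), (17634, Int.negSucc 1), (17635, Int.negSucc 1), (17636, Int.negSucc 1), (17637, Int.ofNat 2), (17638, Int.ofNat 2), (17639, Int.ofNat 2), (17640, Int.negSucc 1), (17641, Int.ofNat 2), (17642, Int.ofNat 2), (17643, Int.ofNat 2), (17644, Int.negSucc 1), (17645, Int.ofNat 2), (17646, Int.ofNat 2), (17647, Int.ofNat 2), (17648, Int.ofNat 2), (17649, Int.negSucc 1), (17650, Int.negSucc 1), (17651, Int.negSucc 1), (17652, Int.negSucc 1), (17653, Int.ofNat 2), (17654, Int.ofNat 2), (17655, Int.ofNat 2), (17656, Int.negSucc 1), (17657, Int.ofNat 2), (17658, Int.ofNat 2), (17659, Int.ofNat 2), (17660, Int.negSucc 1), (17661, Int.ofNat 2), (17662, Int.ofNat 2), (17663, Int.ofNat 2)], [], []⟩,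
  ⟨23104, [(121408, Int.negSucc 15)], [22530], []⟩,
  ⟨98880, [(2624, Int.negSucc 15)], [], []⟩]
theorem pd1 : pairs 1152 Cd Ld1 = true := by decide +kernel
def Ld2 : List PC := [⟨98882, [(2626, Int.negSucc 15)], [], []⟩,
  ⟨98886, [(2630, Int.ofNat 16)], [], []⟩,
  ⟨98892, [(2636, Int.ofNat 16)], [], [10254]⟩,
  ⟨100928, [(98880, Int.ofNat 16)], [], []⟩,
  ⟨119360, [(23104, Int.negSucc 15)], [], [22530]⟩,
  ⟨119362, [(23106, Int.ofNat 16)], [], []⟩,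
  ⟨119366, [(23110, Int.negSucc 15)], [], []⟩,
  ⟨121408, [(119360, Int.ofNat 16)], [], []⟩]
theorem pd2 : pairs 1152 Cd Ld2 = true := by decide +kernel
theorem cd : cov [[1], [2], [3], [4], [5], [6], [0], [7], [8], [9], [10], [39, 40, 37, 40], [35, 38, 35, 40, 35], [37, 40, 37, 40], [39, 40, 37, 40], [40, 36, 36, 36, 40], [37, 40, 37, 40], [39, 40, 37, 40], [35, 38, 35, 40, 35], [37, 40, 37, 40], [24], [39, 40, 37, 40], [25, 28, 29, 32], [27, 28, 31, 34], [26, 30, 31, 32], [25, 26, 27, 28, 33], [40, 36, 36, 36, 40], [37, 40, 37, 40], [39, 40, 37, 40]] (bt1 1152) (Nat.lor (Nat.lor (seeds Ld0) (seeds Ld1)) (seeds Ld2)) (fun x' S' => and (sub (bt1 1152) x') (sub (ones 197184) S')) = true := by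
  decide +kernel
theorem id : Inv (bt1 1152) (ones 197184) := cov_sub ((((pairs_spec pd0).2).or' (pairs_spec pd1).2).or' (pairs_spec pd2).2) cd

end Cfsg.Agent.Mo.Iv
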