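import Cfsg.Agent.Mo.Lc3

/-! Local data and their verification. -/

set_option autoImplicit false
set_option maxRecDepth 100000
set_option Elab.async false

namespace Cfsg.Agent.Mo.Lc

def hnD : LD where
  l := 5
  t1 := [36, 38, 38, 41, 39, 36, 38, 37, 37, 36, 41, 36, 12, 14, 16]
  t2 := [39, 37, 41, 36, 37, 41, 40, 38, 41, 15, 17, 19, 22]
  LT := [([39, 37, 41, 36, 37, 41, 40, 38, 41, 15, 17, 19, 22, 36, 38, 38, 41, 39, 36, 38, 37, 37, 36, 41, 36, 12, 14, 16], nat_lit 0x80000047700047d0005750007130007680005c60004740000750004710005980002b9000475800cec78ddb87d7465380b5953fbb45ef57c2b052f0f1d9b19fe525ab3140e017f2d0),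
    ([27, 31, 17], nat_lit 0x8000004000002000001000000800008400000200000100000080008040000020000010000208440834001902002381006120800320409570203ec0101130080320044ed00242a001),
    ([30, 31, 32, 33, 12, 16, 18], nat_lit 0x800000400000200000900000880000840000820000010000008000004000002000001000fb29e0bf2400ccc200ca6100f2108061f040d98020c65010262008350004d490020d2001),
    ([26, 28, 30, 32, 34, 35, 13, 16], nat_lit 0x800000c00000a00000100000880000040000820000010000808000004000802000001000812eaa1924001bf20067310063d0801230403c1020f8901029400828b004f450023f6001),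
    ([39, 34, 68, 35, 60, 68, 42, 68, 48, 42, 56, 59, 55, 40, 25, 27, 29, 31, 35, 0, 1, 3, 7, 11, 14, 17, 21], nat_lit 0xabaeaa0d1dd5098d655bd2ff070dd1f77f55488931e8e3a760cd940e4c558a2aead435fef76df19278f80fbde8e65febf5ea0c535bb923871638adba9bd1a175ea88b7a1063bb9db),
    ([42, 56, 68, 37, 51, 66, 57, 58, 67, 30, 31, 32, 33, 0, 1, 6, 7, 8, 9, 10, 11, 15, 18, 21, 22, 23], nat_lit 0xaac000ac039de085edac86f95ec77d42c39d6e039deb45edc647f43cc6f92ae000ec17f457ef19f9a37db2b8a78ed1009a28b7cb70c961391afad280189fcb198c5a7856fb67210c)]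
  T1 := nat_lit 0x8000006750000750005750005c60007af0007130002b900047d000471000598000474000475800ab55ef5fb4702fb1e27280d2b2078dfc075df0773f38105ac137c93140e0f1c77c
  r := nat_lit 0x35f42a88cb38e68a501add7318a50
  BT := nat_lit 0x4596aabcb70e8326eefa4f4a7f16aaaac000abaeaa800000
  AT := nat_lit 0x67600047e0004740007320004b30006a10004750001990004740005910006cd000474000c9255dee47052816c0ad614fbd11ff58d670a287cefb950fd701ff37006807f6d0
  PT := nat_lit 0x10000fa0000fa00008800007200008d0000720000000000fa0000050000fa0000000000f40000f20000c500001a0000c500007a0000c00000720000370000de00000800007a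
  BW := [[], [4], [5], [4, 4], [4, 5], [5, 4], [4, 4, 4], [4, 4, 5]]
  YN := [([], 0), ([2, 6, 17], 214), ([5, 6, 7, 8, 12, 16, 18], 232), ([1, 3, 5, 7, 9, 10, 13, 16], 247)]
  S1 := [(0, []), (0, []), (0, [2, 4, 3, 4]), (0, []), (0, [5]), (0, [1, 5]), (0, []), (61098, []), (0, [4, 5, 3, 4]), (0, [2, 4, 4, 5]), (0, []), (10240, []), (0, [4, 3, 4, 4]), (0, [4, 4, 5]), (0, [5, 3, 4, 5]), (0, []), (0, [4, 3, 4]), (0, []), (0, []), (0, []), (0, []), (61258, []), (0, []), (0, []), (0, [4, 4, 3, 4]), (0, []), (0, [3, 4, 4, 1, 4]), (0, [2, 4, 4, 1, 4]), (0, []), (10720, []), (0, [4, 5, 5, 4]), (0, [4, 4, 1, 4]), (0, [5, 4, 3, 4, 5]), (75522, []), (0, [4, 3, 2, 4, 4]), (0, []), (0, []), (0, []), (59460, []), (0, []), (0, []), (0, []), (16110, []), (0, []), (0, [3, 5, 2, 4]), (5795, []), (0, [4]), (0, []), (0, []), (10660, []), (62874, []), (0, [1, 5, 3, 4]), (0, []), (0, [1, 4, 4, 3, 4]), (0, []), (0, []), (0, [5, 5, 4]),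 (0, []), (0, [4, 1, 4]), (25408, []), (85774, []), (0, []), (0, []), (0, []), (0, [5, 3, 4]), (62848, []), (0, [5, 5, 3, 4]), (0, []), (0, []), (0, []), (84388, []), (0, []), (0, []), (0, []), (12046, []), (0, []), (0, [1, 5, 4]), (25458, []), (0, [4, 4, 4, 5]), (0, []), (0, [3, 4]), (0, []), (0, []), (0, []), (14404, []), (0, []), (75553, []), (0, [5, 3, 2, 4]), (0, []), (61166, []), (0, []), (0, []), (0, []), (0, [2, 5, 4, 1, 4]), (0, [2, 5, 2, 4]), (5762, []), (0, [3, 4, 4]), (0, [3, 2, 4, 4]), (0, [4, 5]), (0, []), (0, [2, 4, 4]), (0, [4, 4]), (0, []), (16202, []), (0, [4, 1, 5, 4]), (0, [4, 4, 4, 4, 5]), (0, []), (84448, []), (0, [1, 4, 4, 1, 4]), (0, [4, 3, 5, 1, 4]), (0, [3, 5, 1, 4]), (0, []), (0, []), (0, [1, 4]), (86, []), (339, []), (16042, []), (0, []), (482, []), (68, []), (0, []), (0, [5, 5, 3, 1, 4]), (0, []), (0, []), (83968, []), (0, []), (0, []), (0, []), (0, [4, 1, 4, 4]), (0, [4, 5, 1, 4]), (0,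 []), (14336, []), (0, [1, 4, 4, 5]), (0, [4, 3, 2, 4]), (0, [3, 1, 4]), (0, []), (51, []), (74, []), (85674, []), (0, []), (494, []), (356, []), (0, []), (0, [2, 5, 1, 4]), (0, []), (0, [3, 4, 5]), (0, []), (0, []), (14816, []), (0, []), (0, []), (0, []), (0, []), (85834, []), (0, [4, 3, 1, 4]), (0, [5, 2, 4, 4]), (0, [5, 1, 4]), (0, []), (0, [1, 4, 4]), (0, [5, 4, 4]), (0, []), (0, []), (12014, []), (0, []), (0, [5, 2, 4]), (5793, []), (0, [2, 4, 4, 4, 5]), (0, []), (75520, []), (0, [4, 5, 4, 1, 4]), (84036, []), (0, []), (0, []), (0, []), (0, [4, 5, 4, 4]), (0, []), (0, []), (61198, []), (0, []), (0, []), (0, []), (0, [5, 4, 1, 4]), (0, [5, 4]), (25452, []), (14756, []), (0, []), (0, []), (0, []), (0, [3, 2, 4]), (0, []), (0, [2, 5, 3, 4]), (62870, []), (25438, []), (0, [1, 4, 1, 4]), (0, []), (16142, []), (0, []), (0, []), (0, []), (0, [2, 4]), (0, []), (0, []), (0, []), (59812, []), (0, [3, 5, 3, 4]), (62860,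 []), (0, []), (0, [4, 3, 4, 5]), (0, []), (0, [5, 5, 2, 4]), (0, []), (0, []), (0, []), (85742, []), (5760, []), (0, [5, 5, 4, 1, 4]), (0, [1, 5, 3, 4, 5]), (0, []), (0, []), (0, []), (10308, []), (0, []), (75555, []), (0, [4, 1, 4, 1, 4]), (0, []), (0, []), (0, [5, 3, 1, 4]), (0, []), (0, []), (0, []), (0, []), (59872, []), (0, []), (0, []), (0, []), (0, [5, 2, 4, 3, 4]), (0, []), (0, []), (12106, []), (0, []), (0, []), (59392, []), (0, []), (0, []), (0, [2, 5, 3, 1, 4]), (0, []), (0, []), (0, []), (0, []), (0, [4, 4, 1, 4, 4]), (62, []), (338, []), (11946, []), (0, []), (483, []), (92, [])]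
  p := 2
  S2 := [(10240, []), (10308, [1]), (10720, [2]), (10660, [1, 2]), (11946, [3]), (12014, [1, 3]), (12106, [2, 3]), (12046, [1, 2, 3])]
  s0 := [31]
  S3 := [[], [2, 3, 5, 2, 3, 5], [5, 5], [3, 5, 3, 5]]
  DF := [(3, [1023]), (14, [32767]), (20, [1048575]), (0, [1081407]), (1, [34635807]), (4, [1074841698]), (7, [34310664])]
  S4 := [[], [0], [0, 0], [0, 0, 0], [0, 0, 0, 0], [1, 4, 4, 5, 3, 5, 4, 4, 5], [3, 4, 1, 2, 4, 4, 4, 2, 4], [1, 4, 4, 5, 3, 5, 4, 4, 5, 0], [3, 4, 1, 2, 4, 4, 4, 2, 4, 0], [1, 4, 4, 5, 3, 5, 4, 4, 5, 0, 0], [3, 4, 1, 2, 4, 4, 4, 2, 4, 0, 0], [1, 4, 4, 5, 3, 5, 4, 4, 5, 0, 0, 0], [3, 4, 1, 2, 4, 4, 4, 2, 4, 0, 0, 0], [1, 4, 4, 5, 3, 5, 4, 4, 5, 0, 0, 0, 0], [3, 4, 1, 2, 4, 4, 4, 2, 4, 0, 0, 0, 0]]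
  RL := [(5, [5, 5, 5, 5], [5, 1, 5, 1, 5, 1]), (4, [4, 4, 4, 4, 4, 4], [4, 1, 4, 1, 4, 1, 4, 1, 4, 1])]
theorem hn_c0 : hnD.c0 = true := by decide +kernel
theorem hn_cY : hnD.cY = true := by decide +kernel
theorem hn_cB : hnD.cB = true := by decide +kernel
theorem hn_cW : hnD.cW = true := by decide +kernel
theorem hn_cN : hnD.cN = true := by decide +kernel
theorem hn_cX : hnD.cX = true := by decide +kernel
theorem hn_c1 : hnD.c1 = true := by decide +kernel
theorem hn_c2 : hnD.c2 = true := by decide +kernel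
theorem hn_c3 : hnD.c3 = true := by decide +kernel
theorem hn_c4 : hnD.c4 = true := by decide +kernel
theorem hn_c7 : hnD.c7 = true := by decide +kernel
theorem hn_cR : hnD.cR = true := by decide +kernel
theorem hn_g4t1 : eqW ((hnD.le 4).1 ++ hnD.t1) (hnD.t1 ++ (hnD.le 4).1) = true := by decide +kernel
theorem hn_g4t2 : eqW ((hnD.le 4).1 ++ hnD.t2) (hnD.t2 ++ (hnD.le 4).1) = true := by decide +kernel
theorem hn_g5t1 : eqW ((hnD.le 5).1 ++ hnD.t1) (hnD.t1 ++ (hnD.le 5).1) = true := by decide +kernel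
theorem hn_g5t2 : eqW ((hnD.le 5).1 ++ hnD.t2) (hnD.t2 ++ (hnD.le 5).1) = true := by decide +kernel
theorem hn_ok : hnD.OK :=
  ⟨hn_c0, List.forall_mem_cons.2 ⟨⟨hn_g4t1, hn_g4t2⟩, List.forall_mem_cons.2 ⟨⟨hn_g5t1, hn_g5t2⟩,
    fun _ h => absurd h List.not_mem_nil⟩⟩, hn_cY, hn_cB, hn_cW, hn_cN, hn_cX, hn_c1, hn_c2, hn_c3, hn_c4,
    hn_c7, hn_cR⟩

end Cfsg.Agent.Mo.Lc
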