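import Cfsg.Agent.Mo.Lc3

/-! Local data and their verification. -/

set_option autoImplicit false
set_option maxRecDepth 100000
set_option Elab.async false

namespace Cfsg.Agent.Mo.Lc

def thD : LD where
  l := 3
  t1 := [36, 38, 38, 41, 39, 36, 38, 37, 37, 36, 41, 36, 12, 14, 16]
  t2 := [39, 41, 37, 37, 38, 40, 37, 37, 38, 15, 22]
  LT := [([39, 41, 37, 37, 38, 40, 37, 37, 38, 15, 22, 36, 38, 38, 41, 39, 36, 38, 37, 37, 36, 41, 36, 12, 14, 16], nat_lit 0x8000006750002960004f50005c60007af0004740002b90003c10004750005980007130004758003ee6564c342a3c71b86e454011c4342fa5273f714e38105acab7931bb57231e55c),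
    ([26, 31, 32, 33, 34, 35, 16], nat_lit 0x800000c00000a00000900000880000840000020000010000008000004000802000001000c82fc28464001032002841009780804940400870200cc010092008572004e2d002222001),
    ([25, 28, 30, 31, 34, 35, 17], nat_lit 0x800000c00000a00000100000080000840000820000010000808000004000002000801000820e691c84000f620041510061208061f040a110203ec0104500083500042c0002160001),
    ([28, 29, 31, 32, 33, 15, 20, 22], nat_lit 0x800000400000200000900000880000840000020000810000808000004000002000001000dd89d88ac4001bf200a8b100f0e08081d040607020a4f010fd70086fa0043bd00237a001),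
    ([68, 56, 59, 29, 68, 45, 68, 45, 58, 58, 40, 65, 52, 27, 28, 29, 30, 35, 1, 2, 4, 5, 7, 9, 12, 14, 16, 18, 19, 20], nat_lit 0x98a61aab1f652e4e3a82a21e32e1fd6ed2522b0610f3ec1efafd7a49540baf0cef5e1510b35382a7ddea817db324f583a88fd88013262f7db121b8038ccf16142d7dd724919641a1),
    ([68, 41, 35, 58, 68, 66, 68, 38, 64, 65, 50, 42, 61, 25, 26, 28, 29, 30, 34, 35, 3, 4, 6, 7, 8, 10, 12, 18], nat_lit 0x16a7b10e9c16ae1b89a34aed0fcc9cfad856ca3071fb1561ac12d521545192bbf1f1137123ebf9027ef4d3a8b90ccba834cb82952f893168b504eb2aa407654b1fe19e4d572fe7ce)]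
  T1 := nat_lit 0x8000006750000750005750005c60007af0007130002b900047d000471000598000474000475800ab55ef5fb4702fb1e27280d2b2078dfc075df0773f38105ac137c93140e0f1c77c
  r := nat_lit 0x5473221864dce56bd4158a34b424e
  BT := nat_lit 0xace7b15eb9d8a0d9d86bffb121e7b116a7b198a61a800000
  AT := nat_lit 0x8000006750002960004f50005c60007af0004740002b90003c10004750005980007130004758003ee6564c342a3c71b86e454011c4342fa5273f714e38105acab7931bb57231e55c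
  PT := nat_lit 0x100006d00006d0000e40000e400000c0000e80000610000890000000000850000e80000910000050000d60000b700008a00003800003f0000d80000610000d6000065000001
  BW := [[], [4], [5], [4, 4], [4, 5], [5, 4], [5, 5], [4, 5, 4]]
  YN := [([], 0), ([1, 6, 7, 8, 9, 10, 16], 210), ([0, 3, 5, 6, 9, 10, 17], 92), ([3, 4, 6, 7, 8, 15, 20, 22], 188)]
  S1 := [(0, []), (0, []), (0, [1, 4]), (0, [3, 4]), (0, [2, 4, 2, 1, 4]), (0, [3, 4, 2, 1, 4]), (0, [5, 5, 5, 4]), (0, [4, 1, 4, 5]), (0, [1, 4, 2, 1, 4]), (0, [4, 2, 5, 4]), (0, [4, 5, 5, 1, 4]), (0, [2, 4, 3, 2, 4]), (0, [1, 5, 5, 5]), (0, [5, 5, 5]), (0, [5, 3, 5]), (0, [2, 4]), (0, [2, 5, 4]), (0, []), (0, [4, 5, 3, 4]), (0, []), (0, [2, 5, 3, 2, 4]), (0, []), (0, [3, 2, 4, 1, 5]), (0, []), (0, [5, 1, 4, 5]), (0, []), (0, [5, 5, 1, 4]), (0, []), (0, [4, 5]), (0, []), (0, [5, 5, 3, 1, 4]), (0, []), (0,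 [5, 1, 4, 2, 4]), (0, []), (0, [4, 1, 5, 4]), (0, []), (0, []), (0, [4, 4, 2, 5]), (0, []), (0, [2, 1, 5, 4]), (0, [1, 4, 1, 5]), (0, []), (0, [1, 4, 5]), (0, []), (0, []), (0, [2, 4, 4, 4]), (0, []), (0, [2, 4, 5, 3, 4]), (0, [3, 4, 2, 5]), (0, [5, 4, 5]), (0, [3, 2, 4, 4]), (0, [1, 4, 4]), (0, []), (0, []), (0, []), (0, []), (0, [1, 4, 2, 4]), (0, [3, 1, 4, 2, 4]), (0, [5, 1, 4]), (0, [1, 5, 1, 4]), (0, []), (0, []), (0, []), (0, []), (0, [5, 5, 2, 5]), (0, []), (0, []), (0, [3, 1, 5, 4]), (0, [3, 4, 4, 4]), (0, []), (0, []), (0, [5, 1, 4, 5, 4]), (0, []), (0, [5, 3, 2, 4]), (0, [1, 4, 5, 5]), (0, []), (0, []), (0, [4, 3, 5]), (0, [5, 5]), (0, []), (0, [5, 5, 4]), (0, [2, 5, 5, 4]), (0, []), (0, []), (0, [2, 4, 2, 4]), (0, [4, 5, 4]), (0, []), (0, []), (0, []), (0, []), (0, [3, 5]), (0, [3, 1, 5]), (0, []), (0, []), (0, [2, 4, 4]), (0, [3,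 1, 4, 4]), (0, [5, 4, 2, 4]), (0, [3, 5, 4, 2, 4]), (0, []), (0, []), (0, []), (0, []), (0, [2, 5, 5, 5, 4]), (0, [4, 3, 4, 4]), (0, []), (0, []), (0, [4, 3, 2, 4]), (0, [5, 5, 4, 4]), (0, [4, 5, 4, 4]), (0, [5, 1, 5, 4]), (0, []), (0, []), (0, [5, 1, 5, 5]), (0, []), (0, []), (0, [2, 5, 5]), (0, []), (0, [4, 2, 4, 4]), (0, [2, 5, 4, 4]), (0, []), (0, []), (0, [3, 4, 3, 5]), (0, [5, 3, 1, 4]), (0, []), (0, [4, 5, 5]), (0, []), (0, []), (0, [4, 3, 4, 4, 4]), (0, [1, 4, 2, 5, 4]), (0, [4, 2, 1, 4]), (0, []), (0, []), (0, [4, 2, 4, 5]), (0, [5, 4, 3, 5]), (0, []), (0, []), (0, [5, 3, 4]), (0, [2, 5, 3, 4]), (0, []), (0, []), (0, [4, 2, 1, 4, 4]), (0, [2, 4, 2, 5, 4]), (0, []), (0, []), (0, []), (0, [4, 4, 3, 4, 4]), (0, [3, 5, 5]), (0, []), (0, []), (0, [2, 4, 3, 5]), (0, [3, 5, 4, 4]), (0, []), (0, []), (0, [4, 4, 2, 4, 4]), (0, [5, 1, 4, 4]),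 (0, []), (0, []), (0, [4, 4, 5, 4]), (0, [1, 5, 4]), (0, []), (0, [3, 2, 5, 4]), (0, []), (0, []), (0, [3, 5, 2, 1, 4]), (0, []), (0, [2, 4, 5, 5]), (0, [4, 3, 1, 5]), (0, []), (0, [5, 1, 5, 1, 4]), (0, []), (0, []), (0, [3, 2, 5, 4, 4]), (0, []), (0, [3, 4, 5]), (0, [3, 4, 1, 5]), (0, []), (0, []), (0, []), (0, [5]), (0, [1, 5]), (0, [4, 2, 5]), (0, [5, 4, 5, 4]), (0, []), (0, []), (0, []), (0, []), (0, [3, 2, 1, 4, 4]), (0, [4, 4]), (0, [1, 4, 5, 4]), (0, [2, 1, 4, 2, 4]), (0, []), (0, []), (0, []), (0, [2, 4, 4, 5, 4]), (0, []), (0, [1, 4, 4, 4]), (0, []), (0, [2, 4, 5]), (0, []), (0, [2, 5, 2, 1, 4]), (0, [5, 4]), (0, []), (0, [2, 4, 1, 5]), (0, []), (0, [3, 4, 5, 5]), (0, []), (0, [5, 4, 4]), (0, []), (0, [4, 2, 4]), (0, [3, 4, 2, 4]), (0, [2, 1, 5]), (0, [2, 5]), (0, [1, 4, 2, 5]), (0, [3, 5, 5, 4]), (0, [3, 4, 4]), (0, [2, 1, 4, 4]),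 (0, []), (0, []), (0, []), (0, []), (0, []), (0, []), (0, []), (0, []), (0, []), (0, []), (0, []), (0, []), (0, [1, 4, 1, 5, 1, 4]), (0, [4, 1, 5, 1, 4]), (0, [3, 2, 4]), (0, [2, 1, 4]), (0, [5, 2, 5]), (0, [2, 5, 2, 5]), (0, [3, 1, 4]), (0, [4]), (0, []), (0, []), (0, []), (0, []), (0, [1, 5, 5]), (0, []), (0, [5, 2, 5, 2, 5]), (0, []), (0, []), (0, [4, 4, 4]), (0, []), (0, [4, 1, 5]), (0, []), (0, [1, 5, 4, 4]), (0, []), (0, [5, 2, 1, 4]), (0, [3, 5, 4]), (0, []), (0, [3, 4, 1, 5, 4]), (0, [])]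
  p := 0
  S2 := [(2048, []), (4034, [1]), (3689, [2]), (2475, [1, 2]), (2520, [3]), (3610, [1, 3]), (4017, [2, 3]), (2163, [1, 2, 3])]
  s0 := [7]
  S3 := [[], [4, 2, 4, 1, 5, 2, 4, 0, 0], [4, 2, 3, 4, 2, 3, 5, 0, 0], [4, 2, 3, 5, 3, 5, 0, 0], [1, 4, 2, 4, 1, 4, 4], [1, 4, 1, 4, 0], [4, 2, 3, 4, 2, 3, 5], [2, 5, 1, 4, 1, 2, 4, 4], [4, 2, 4, 1, 5, 2, 4], [2, 4, 5, 2, 5, 4, 0], [2, 4, 5, 2, 5, 4], [2, 5, 1, 4, 1, 2, 4, 4, 0, 0], [1, 4, 1, 4, 0, 0], [2, 5, 1, 4, 1, 2, 4, 4, 0], [0, 0], [2, 4, 5, 2, 5, 4, 0, 0], [4, 2, 3, 4, 2, 3, 5, 0], [1, 4, 1, 4], [4, 2, 4, 1, 5, 2, 4, 0], [1, 4, 2, 4, 1, 4, 4, 0], [1, 4, 2, 4, 1, 4, 4, 0, 0], [4, 2, 3, 5, 3, 5], [4, 2, 3, 5, 3, 5, 0], [0]]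
  DF := [(1, [63]), (2, [511]), (4, [3294]), (3, [17567]), (5, [138522]), (7, [68084]), (9, [4539684])]
  S4 := [[], [1, 5, 1, 3, 5, 5, 3, 5], [2, 5, 2, 4, 4, 1, 4, 4], [4, 3, 5, 5, 4, 5, 2, 4], [5, 1, 5, 1, 3, 5, 4, 3], [1, 5, 3, 4, 4, 1, 5, 1, 4], [1, 5, 4, 2, 4, 4, 4, 4, 4], [1, 5, 4, 3, 5, 4, 5, 1, 5], [2, 5, 5, 1, 5, 4, 4, 5, 5], [3, 5, 2, 4, 3, 4, 5, 1, 4], [3, 5, 4, 4, 1, 5, 2, 3, 4], [4, 2, 5, 2, 4, 2, 5, 4, 3], [4, 5, 4, 5, 5, 4, 2, 3, 5], [4, 5, 5, 4, 4, 4, 3, 5, 2], [5, 3, 4, 4, 4, 1, 2, 3, 4], [5, 4, 5, 4, 2, 5, 5, 5, 5], [1, 3, 4, 4, 2, 5, 1, 5, 1, 5], [2, 4, 5, 1, 2, 4, 4, 1, 2, 5], [2, 5, 3, 5, 5, 5, 2, 5, 1, 4], [3, 4, 1, 3, 5, 5, 4, 5, 1, 5], [4, 1, 5, 3, 4, 1, 3, 4, 4, 4]]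
  RL := [(5, [5, 1, 5, 1, 5, 1, 5, 1], [5, 5, 5, 5, 5, 5, 5, 5, 5, 5, 5, 5, 5, 5, 5]), (4, [4, 3, 4, 3, 4, 3], [4, 5, 5, 4, 5, 5, 4, 5, 5, 4, 5, 5])]
theorem th_c0 : thD.c0 = true := by decide +kernel
theorem th_cY : thD.cY = true := by decide +kernel
theorem th_cB : thD.cB = true := by decide +kernel
theorem th_cW : thD.cW = true := by decide +kernel
theorem th_cN : thD.cN = true := by decide +kernel
theorem th_cX : thD.cX = true := by decide +kernel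
theorem th_c1 : thD.c1 = true := by decide +kernel
theorem th_c2 : thD.c2 = true := by decide +kernel
theorem th_c3 : thD.c3 = true := by decide +kernel
theorem th_c4 : thD.c4 = true := by decide +kernel
theorem th_c7 : thD.c7 = true := by decide +kernel
theorem th_cR : thD.cR = true := by decide +kernel
theorem th_g4t1 : eqW ((thD.le 4).1 ++ thD.t1) (thD.t1 ++ (thD.le 4).1) = true := by decide +kernel
theorem th_g4t2 : eqW ((thD.le 4).1 ++ thD.t2) (thD.t2 ++ (thD.le 4).1) = true := by decide +kernel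
theorem th_g5t1 : eqW ((thD.le 5).1 ++ thD.t1) (thD.t1 ++ (thD.le 5).1) = true := by decide +kernel
theorem th_g5t2 : eqW ((thD.le 5).1 ++ thD.t2) (thD.t2 ++ (thD.le 5).1) = true := by decide +kernel
theorem th_ok : thD.OK :=
  ⟨th_c0, List.forall_mem_cons.2 ⟨⟨th_g4t1, th_g4t2⟩, List.forall_mem_cons.2 ⟨⟨th_g5t1, th_g5t2⟩,
    fun _ h => absurd h List.not_mem_nil⟩⟩, th_cY, th_cB, th_cW, th_cN, th_cX, th_c1, th_c2, th_c3, th_c4,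
    th_c7, th_cR⟩

end Cfsg.Agent.Mo.Lc
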