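import Cfsg.Agent.Mo.Ck0
import Cfsg.Agent.Mo.Ck1
import Cfsg.Agent.Mo.Ck2
import Cfsg.Agent.Mo.Ck3
import Cfsg.Agent.Mo.Ck4
import Cfsg.Agent.Mo.Ck5
import Cfsg.Agent.Mo.Ck6
import Cfsg.Agent.Mo.Ck7
import Cfsg.Agent.Mo.Ck8
import Cfsg.Agent.Mo.Ck9
import Cfsg.Agent.Mo.Ck10
import Cfsg.Agent.Mo.Ck11
import Cfsg.Agent.Mo.Ck12
import Cfsg.Agent.Mo.Ck13
import Cfsg.Agent.Mo.Ck14
import Cfsg.Agent.Mo.Ck15
import Cfsg.Agent.Mo.CkS0
import Cfsg.Agent.Mo.CkS1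
import Cfsg.Agent.Mo.CkE0
import Cfsg.Agent.Mo.CkE1
import Cfsg.Agent.Mo.CkF
import Cfsg.Agent.Mo.CkC
import Cfsg.Agent.Mo.Bf_0
import Cfsg.Agent.Mo.Bf_1
import Cfsg.Agent.Mo.Bf_2
import Cfsg.Agent.Mo.Bf_3
import Cfsg.Agent.Mo.Bf_4
import Cfsg.Agent.Mo.Bf_5
import Cfsg.Agent.Mo.Bf_6
import Cfsg.Agent.Mo.Bf_7
import Cfsg.Agent.Mo.Bf_8
import Cfsg.Agent.Mo.Bf_9
import Cfsg.Agent.Mo.Bf_10
import Cfsg.Agent.Mo.Bf_11
import Cfsg.Agent.Mo.Inv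

/-! The computed facts. -/

set_option maxRecDepth 100000

namespace Cfsg.Agent.Mo

open H4 H5 H5.Lee

theorem alls {α : Type} {l : List α} {p : α → Bool} (a n : ℕ) (h1 : ((l.drop a).take n).all p = true)
    (h2 : (l.drop (a + n)).all p = true) : (l.drop a).all p = true := by
  rw [← List.take_append_drop n (l.drop a), List.all_append, h1, List.drop_drop, h2]; rfl

theorem sda0_0 : (sg0_0.drop 0).all (sdC dSV 0) = true :=
  (alls 0 3 sd0_0_0 (by decide +kernel))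
theorem sda0_1 : (sg0_1.drop 0).all (sdC dSV 0) = true :=
  (alls 0 3 sd0_1_0 (by decide +kernel))
theorem sda0_2 : (sg0_2.drop 0).all (sdC dSV 0) = true :=
  (by decide +kernel)
theorem sda0_3 : (sg0_3.drop 0).all (sdC dSV 0) = true :=
  (by decide +kernel)
theorem sda1_0 : (sg1_0.drop 0).all (sdC dSV 1) = true :=
  (alls 0 3 sd1_0_0 (by decide +kernel))
theorem sda1_1 : (sg1_1.drop 0).all (sdC dSV 1) = true :=
  (alls 0 3 sd1_1_0 (by decide +kernel))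
theorem sda1_2 : (sg1_2.drop 0).all (sdC dSV 1) = true :=
  (alls 0 3 sd1_2_0 (by decide +kernel))
theorem sda1_3 : (sg1_3.drop 0).all (sdC dSV 1) = true :=
  (by decide +kernel)
theorem sda2_0 : (sg2_0.drop 0).all (sdC dSV 2) = true :=
  (alls 0 3 sd2_0_0 (alls 3 3 sd2_0_3 (alls 6 3 sd2_0_6 (alls 9 3 sd2_0_9 (by decide +kernel)))))
theorem sda2_1 : (sg2_1.drop 0).all (sdC dSV 2) = true :=
  (alls 0 3 sd2_1_0 (by decide +kernel))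
theorem sda2_2 : (sg2_2.drop 0).all (sdC dSV 2) = true :=
  (alls 0 3 sd2_2_0 (by decide +kernel))
theorem sda2_3 : (sg2_3.drop 0).all (sdC dSV 2) = true :=
  (alls 0 3 sd2_3_0 (by decide +kernel))
theorem sda3_0 : (sg3_0.drop 0).all (sdC dSV 3) = true :=
  (alls 0 3 sd3_0_0 (alls 3 3 sd3_0_3 (alls 6 3 sd3_0_6 (alls 9 3 sd3_0_9 (alls 12 3 sd3_0_12 (alls 15 3 sd3_0_15 (alls 18 3 sd3_0_18 (alls 21 3 sd3_0_21 (alls 24 3 sd3_0_24 (alls 27 3 sd3_0_27 (alls 30 3 sd3_0_30 (alls 33 3 sd3_0_33 (by decide +kernel)))))))))))))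
theorem sda3_1 : (sg3_1.drop 0).all (sdC dSV 3) = true :=
  (alls 0 3 sd3_1_0 (by decide +kernel))
theorem sda3_2 : (sg3_2.drop 0).all (sdC dSV 3) = true :=
  (alls 0 3 sd3_2_0 (by decide +kernel))
theorem sda3_3 : (sg3_3.drop 0).all (sdC dSV 3) = true :=
  (alls 0 3 sd3_3_0 (by decide +kernel))
theorem sda4_0 : (sg4_0.drop 0).all (sdC dSV 4) = true :=
  (alls 0 3 sd4_0_0 (alls 3 3 sd4_0_3 (by decide +kernel)))
theorem sda4_1 : (sg4_1.drop 0).all (sdC dSV 4) = true :=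
  (alls 0 3 sd4_1_0 (by decide +kernel))
theorem sda4_2 : (sg4_2.drop 0).all (sdC dSV 4) = true :=
  (by decide +kernel)
theorem sda4_3 : (sg4_3.drop 0).all (sdC dSV 4) = true :=
  (by decide +kernel)
theorem sda5_0 : (sg5_0.drop 0).all (sdC dSV 5) = true :=
  (alls 0 3 sd5_0_0 (alls 3 3 sd5_0_3 (by decide +kernel)))
theorem sda5_1 : (sg5_1.drop 0).all (sdC dSV 5) = true :=
  (alls 0 3 sd5_1_0 (by decide +kernel))
theorem sda5_2 : (sg5_2.drop 0).all (sdC dSV 5) = true :=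
  (alls 0 3 sd5_2_0 (by decide +kernel))
theorem sda5_3 : (sg5_3.drop 0).all (sdC dSV 5) = true :=
  (alls 0 3 sd5_3_0 (by decide +kernel))
theorem sda6_0 : (sg6_0.drop 0).all (sdC dSV 6) = true :=
  (alls 0 3 sd6_0_0 (alls 3 3 sd6_0_3 (alls 6 3 sd6_0_6 (alls 9 3 sd6_0_9 (alls 12 3 sd6_0_12 (by decide +kernel))))))
theorem sda6_1 : (sg6_1.drop 0).all (sdC dSV 6) = true :=
  (alls 0 3 sd6_1_0 (by decide +kernel))
theorem sda6_2 : (sg6_2.drop 0).all (sdC dSV 6) = true :=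
  (alls 0 3 sd6_2_0 (by decide +kernel))
theorem sda6_3 : (sg6_3.drop 0).all (sdC dSV 6) = true :=
  (by decide +kernel)
theorem sda7_0 : (sg7_0.drop 0).all (sdC dSV 7) = true :=
  (alls 0 3 sd7_0_0 (alls 3 3 sd7_0_3 (alls 6 3 sd7_0_6 (alls 9 3 sd7_0_9 (alls 12 3 sd7_0_12 (alls 15 3 sd7_0_15 (alls 18 3 sd7_0_18 (alls 21 3 sd7_0_21 (by decide +kernel)))))))))
theorem sda7_1 : (sg7_1.drop 0).all (sdC dSV 7) = true :=
  (alls 0 3 sd7_1_0 (by decide +kernel))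
theorem sda7_2 : (sg7_2.drop 0).all (sdC dSV 7) = true :=
  (by decide +kernel)
theorem sda7_3 : (sg7_3.drop 0).all (sdC dSV 7) = true :=
  (by decide +kernel)
theorem sda8_0 : (sg8_0.drop 0).all (sdC dSV 8) = true :=
  (alls 0 3 sd8_0_0 (alls 3 3 sd8_0_3 (by decide +kernel)))
theorem sda8_1 : (sg8_1.drop 0).all (sdC dSV 8) = true :=
  (alls 0 3 sd8_1_0 (by decide +kernel))
theorem sda8_2 : (sg8_2.drop 0).all (sdC dSV 8) = true :=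
  (alls 0 3 sd8_2_0 (by decide +kernel))
theorem sda8_3 : (sg8_3.drop 0).all (sdC dSV 8) = true :=
  (alls 0 3 sd8_3_0 (by decide +kernel))
theorem sda9_0 : (sg9_0.drop 0).all (sdC dSV 9) = true :=
  (alls 0 3 sd9_0_0 (alls 3 3 sd9_0_3 (alls 6 3 sd9_0_6 (alls 9 3 sd9_0_9 (alls 12 3 sd9_0_12 (alls 15 3 sd9_0_15 (alls 18 3 sd9_0_18 (alls 21 3 sd9_0_21 (alls 24 3 sd9_0_24 (alls 27 3 sd9_0_27 (alls 30 3 sd9_0_30 (alls 33 3 sd9_0_33 (alls 36 3 sd9_0_36 (by decide +kernel))))))))))))))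
theorem sda9_1 : (sg9_1.drop 0).all (sdC dSV 9) = true :=
  (alls 0 3 sd9_1_0 (by decide +kernel))
theorem sda9_2 : (sg9_2.drop 0).all (sdC dSV 9) = true :=
  (by decide +kernel)
theorem sda9_3 : (sg9_3.drop 0).all (sdC dSV 9) = true :=
  (by decide +kernel)
theorem sda10_0 : (sg10_0.drop 0).all (sdC dSV 10) = true :=
  (alls 0 3 sd10_0_0 (alls 3 3 sd10_0_3 (alls 6 3 sd10_0_6 (alls 9 3 sd10_0_9 (alls 12 3 sd10_0_12 (alls 15 3 sd10_0_15 (alls 18 3 sd10_0_18 (alls 21 3 sd10_0_21 (alls 24 3 sd10_0_24 (alls 27 3 sd10_0_27 (alls 30 3 sd10_0_30 (alls 33 3 sd10_0_33 (alls 36 3 sd10_0_36 (alls 39 3 sd10_0_39 (alls 42 3 sd10_0_42 (alls 45 3 sd10_0_45 (alls 48 3 sd10_0_48 (alls 51 3 sd10_0_51 (alls 54 3 sd10_0_54 (alls 57 3 sd10_0_57 (alls 60 3 sd10_0_60 (by decide +kernel))))))))))))))))))))))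
theorem sda10_1 : (sg10_1.drop 0).all (sdC dSV 10) = true :=
  (alls 0 3 sd10_1_0 (by decide +kernel))
theorem sda10_2 : (sg10_2.drop 0).all (sdC dSV 10) = true :=
  (by decide +kernel)
theorem sda10_3 : (sg10_3.drop 0).all (sdC dSV 10) = true :=
  (by decide +kernel)
theorem sda11_0 : (sg11_0.drop 0).all (sdC dSV 11) = true :=
  (alls 0 3 sd11_0_0 (alls 3 3 sd11_0_3 (alls 6 3 sd11_0_6 (alls 9 3 sd11_0_9 (alls 12 3 sd11_0_12 (alls 15 3 sd11_0_15 (alls 18 3 sd11_0_18 (by decide +kernel))))))))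
theorem sda11_1 : (sg11_1.drop 0).all (sdC dSV 11) = true :=
  (alls 0 3 sd11_1_0 (by decide +kernel))
theorem sda11_2 : (sg11_2.drop 0).all (sdC dSV 11) = true :=
  (by decide +kernel)
theorem sda11_3 : (sg11_3.drop 0).all (sdC dSV 11) = true :=
  (by decide +kernel)
theorem eda : (dE.drop 0).all (edC dat.ST dat.SD) = true :=
  (alls 0 40 edc0 (alls 40 40 edc40 (alls 80 40 edc80 (alls 120 40 edc120 (alls 160 40 edc160 (alls 200 40 edc200 (by decide +kernel)))))))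
theorem cna : (dCN.drop 0).all (cnC dSV dat.q0 dat.h0) = true :=
  (alls 0 1 cnc0 (alls 1 1 cnc1 (alls 2 1 cnc2 (alls 3 1 cnc3 (alls 4 1 cnc4 (alls 5 1 cnc5 (alls 6 1 cnc6 (alls 7 1 cnc7 (by decide +kernel)))))))))
theorem colc0 : colC st0 (dat.SG 0) (dat.QS 0) gs_0 seeds_0 = true ∧ cnt_0 = dat.cnt 0 := by
  decide +kernel
theorem colc1 : colC st1 (dat.SG 1) (dat.QS 1) gs_1 seeds_1 = true ∧ cnt_1 = dat.cnt 1 := by
  decide +kernel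
theorem colc2 : colC st2 (dat.SG 2) (dat.QS 2) gs_2 seeds_2 = true ∧ cnt_2 = dat.cnt 2 := by
  decide +kernel
theorem colc3 : colC st3 (dat.SG 3) (dat.QS 3) gs_3 seeds_3 = true ∧ cnt_3 = dat.cnt 3 := by
  decide +kernel
theorem colc4 : colC st4 (dat.SG 4) (dat.QS 4) gs_4 seeds_4 = true ∧ cnt_4 = dat.cnt 4 := by
  decide +kernel
theorem colc5 : colC st5 (dat.SG 5) (dat.QS 5) gs_5 seeds_5 = true ∧ cnt_5 = dat.cnt 5 := by
  decide +kernel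
theorem colc6 : colC st6 (dat.SG 6) (dat.QS 6) gs_6 seeds_6 = true ∧ cnt_6 = dat.cnt 6 := by
  decide +kernel
theorem colc7 : colC st7 (dat.SG 7) (dat.QS 7) gs_7 seeds_7 = true ∧ cnt_7 = dat.cnt 7 := by
  decide +kernel
theorem colc8 : colC st8 (dat.SG 8) (dat.QS 8) gs_8 seeds_8 = true ∧ cnt_8 = dat.cnt 8 := by
  decide +kernel
theorem colc9 : colC st9 (dat.SG 9) (dat.QS 9) gs_9 seeds_9 = true ∧ cnt_9 = dat.cnt 9 := by
  decide +kernel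
theorem colc10 : colC st10 (dat.SG 10) (dat.QS 10) gs_10 seeds_10 = true ∧ cnt_10 = dat.cnt 10 := by
  decide +kernel
theorem colc11 : colC st11 (dat.SG 11) (dat.QS 11) gs_11 seeds_11 = true ∧ cnt_11 = dat.cnt 11 := by
  decide +kernel

theorem ns_of {S : List ℕ} {a b c : ℕ} {d : ℤ} (h : (goodC S && Nat.beq (nsC S 0) a && Nat.beq (nsC S 32) b &&
    Nat.beq (nsC S d) c) = true) : goodC S = true ∧ nsC S 0 = a ∧ nsC S 32 = b ∧ nsC S d = c := by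
  simpa [and_assoc] using h
theorem st_of {S : List ℕ} {W : List (List ℕ × List ℕ × ℕ)} {T : List (List ℕ × ℕ)} (g : goodC S = true)
    (h : (W.all (fun x => stabC S x.1 x.2) && decide (W.map (·.2) = T)) = true) :
    ∀ t ∈ T, StOK (inc (val S)) t := by
  rw [Bool.and_eq_true, List.all_eq_true, decide_eq_true_eq] at h
  rw [← h.2]
  intro t ht
  obtain ⟨x, hx, rfl⟩ := List.mem_map.1 ht
  exact stabC_spec (goodC_spec g) (h.1 x hx)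

theorem ns_all (i : Fin 12) : goodC (dat.SV i) = true ∧ nsC (dat.SV i) 0 = dat.n0 i ∧
    nsC (dat.SV i) 32 = dat.n4 i ∧ nsC (dat.SV i) dat.c1 = dat.n1 i :=
  match i with
  | 0 => ns_of nsc0
  | 1 => ns_of nsc1
  | 2 => ns_of nsc2
  | 3 => ns_of nsc3
  | 4 => ns_of nsc4
  | 5 => ns_of nsc5
  | 6 => ns_of nsc6
  | 7 => ns_of nsc7
  | 8 => ns_of nsc8
  | 9 => ns_of nsc9
  | 10 => ns_of nsc10
  | 11 => ns_of nsc11
theorem st_all (i : Fin 12) : ∀ t ∈ dat.ST i, StOK (dat.v i) t :=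
  match i with
  | 0 => st_of (ns_all 0).1 stc0
  | 1 => st_of (ns_all 1).1 stc1
  | 2 => st_of (ns_all 2).1 stc2
  | 3 => st_of (ns_all 3).1 stc3
  | 4 => st_of (ns_all 4).1 stc4
  | 5 => st_of (ns_all 5).1 stc5
  | 6 => st_of (ns_all 6).1 stc6
  | 7 => st_of (ns_all 7).1 stc7
  | 8 => st_of (ns_all 8).1 stc8
  | 9 => st_of (ns_all 9).1 stc9
  | 10 => st_of (ns_all 10).1 stc10
  | 11 => st_of (ns_all 11).1 stc11
theorem sd_all (i : Fin 12) (g : Fin 4) : (dat.SG i g).all (sdC dSV i) = true :=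
  match i, g with
  | 0, 0 => sda0_0
  | 0, 1 => sda0_1
  | 0, 2 => sda0_2
  | 0, 3 => sda0_3
  | 1, 0 => sda1_0
  | 1, 1 => sda1_1
  | 1, 2 => sda1_2
  | 1, 3 => sda1_3
  | 2, 0 => sda2_0
  | 2, 1 => sda2_1
  | 2, 2 => sda2_2
  | 2, 3 => sda2_3
  | 3, 0 => sda3_0
  | 3, 1 => sda3_1
  | 3, 2 => sda3_2
  | 3, 3 => sda3_3
  | 4, 0 => sda4_0
  | 4, 1 => sda4_1
  | 4, 2 => sda4_2
  | 4, 3 => sda4_3
  | 5, 0 => sda5_0
  | 5, 1 => sda5_1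
  | 5, 2 => sda5_2
  | 5, 3 => sda5_3
  | 6, 0 => sda6_0
  | 6, 1 => sda6_1
  | 6, 2 => sda6_2
  | 6, 3 => sda6_3
  | 7, 0 => sda7_0
  | 7, 1 => sda7_1
  | 7, 2 => sda7_2
  | 7, 3 => sda7_3
  | 8, 0 => sda8_0
  | 8, 1 => sda8_1
  | 8, 2 => sda8_2
  | 8, 3 => sda8_3
  | 9, 0 => sda9_0
  | 9, 1 => sda9_1
  | 9, 2 => sda9_2
  | 9, 3 => sda9_3
  | 10, 0 => sda10_0
  | 10, 1 => sda10_1
  | 10, 2 => sda10_2
  | 10, 3 => sda10_3
  | 11, 0 => sda11_0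
  | 11, 1 => sda11_1
  | 11, 2 => sda11_2
  | 11, 3 => sda11_3
theorem bf_all (i : Fin 12) : ∃ gs seeds, BfsOK gs seeds (dat.cnt i) ∧
    colC (dat.ST i) (dat.SG i) (dat.QS i) gs seeds = true :=
  match i with
  | 0 => ⟨_, _, colc0.2 ▸ bfs_0, colc0.1⟩
  | 1 => ⟨_, _, colc1.2 ▸ bfs_1, colc1.1⟩
  | 2 => ⟨_, _, colc2.2 ▸ bfs_2, colc2.1⟩
  | 3 => ⟨_, _, colc3.2 ▸ bfs_3, colc3.1⟩
  | 4 => ⟨_, _, colc4.2 ▸ bfs_4, colc4.1⟩
  | 5 => ⟨_, _, colc5.2 ▸ bfs_5, colc5.1⟩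
  | 6 => ⟨_, _, colc6.2 ▸ bfs_6, colc6.1⟩
  | 7 => ⟨_, _, colc7.2 ▸ bfs_7, colc7.1⟩
  | 8 => ⟨_, _, colc8.2 ▸ bfs_8, colc8.1⟩
  | 9 => ⟨_, _, colc9.2 ▸ bfs_9, colc9.1⟩
  | 10 => ⟨_, _, colc10.2 ▸ bfs_10, colc10.1⟩
  | 11 => ⟨_, _, colc11.2 ▸ bfs_11, colc11.1⟩

theorem rp_sv (i : Fin 12) : Rp (dSV i) (dat.v i) := goodC_spec (ns_all i).1

theorem dat_ok : dat.OK :=
  ⟨tau_aut, fun i => (ns_all i).1, st_all,
    fun i g s hs => sdC_spec rp_sv (List.all_eq_true.1 (sd_all i g) s hs), bf_all, fun i => (ns_all i).2,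
    List.all_eq_true.1 eda, List.all_eq_true.1 cna, List.all_eq_true.1 ndc, finc⟩

theorem hyp_main : Hyp tau (rq 1) (rq 2) (rq 26) (ug 23) false eT false := dat_ok.hyp2.hyp

end Cfsg.Agent.Mo
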