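import Cfsg.Agent.Mo.GenC0
import Cfsg.Agent.Mo.GenC1
import Cfsg.Agent.Mo.GenC2
import Cfsg.Agent.Mo.GenC3
import Cfsg.Agent.Mo.GenC4

/-! The table of 69 generators and words in them. -/

set_option autoImplicit false

namespace Cfsg.Agent.Mo

open H4 H5 H5.Lee

def CI : ℕ := nat_lit 0x821084210842108421084210842108441084210842108421084210842108422084210842108421084210842108421104210842108421084210842108421088210842108421084210842108421084410842108421084210842108421084220842108421084210842108421084211042108421084210842108421084210882108421084210842108421084210844108421084210842108421084210842208421084210842108421084210842110421084210842108421084210842108821084210842108421084210842108441084210842108421084210842108422084210842108421084210842108421104210842108421084210842108421088210842108421084210842108421084410842108421084210842108421084220842108421084210842108421084211042108421084210842108421084210882108421084210842108421084210844108421084210842108421084210842208421084210842108421084210842110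
def YI : List ℕ := [1, 2, 4, 8, 16, 32, 64, 128, 256, 512, 1024, 2048, 4096, 8192, 16384, 32768, 65536, 131072, 262144, 524288, 1048576, 2097152, 4194304, 8388608]
def xG (c m : Prog) (ss : ℕ) : Gen := ⟨CI, [], [], c, [], m, 0, 0, 0, 0, YI, ss, [], [0]⟩
/-- the generator `P (2 ^ k)`, `k < 24` (at most two stages) -/
noncomputable def qG (k : ℕ) : Gen :=
  xG (PPg (Nat.shiftLeft 1 k) false) [⟨2, 0, CPL.getD (Nat.mod (Nat.add k 12) 24) 0⟩]
    (Nat.shiftLeft 1 (Nat.mod (Nat.add k 12) 24))
/-- the generator `-1` -/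
noncomputable def zG : Gen := xG (PPg 0 true) [] 0

theorem qG_ok : allLt 24 (fun k => (qG k).ok) = true := by decide +kernel
theorem zG_ok : zG.ok = true := by decide +kernel

noncomputable def p25 : Prog := mkP g25
noncomputable def p26 : Prog := mkP g26
noncomputable def p27 : Prog := mkP g27
noncomputable def p28 : Prog := mkP g28
noncomputable def p29 : Prog := mkP g29
noncomputable def p30 : Prog := mkP g30
noncomputable def p31 : Prog := mkP g31
noncomputable def p32 : Prog := mkP g32
noncomputable def p33 : Prog := mkP g33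
noncomputable def p34 : Prog := mkP g34
noncomputable def p35 : Prog := mkP g35
noncomputable def p36 : Prog := mkP g36
noncomputable def p37 : Prog := mkP g37
noncomputable def p38 : Prog := mkP g38
noncomputable def p39 : Prog := mkP g39
noncomputable def p40 : Prog := mkP g40
noncomputable def p41 : Prog := mkP g41
noncomputable def p42 : Prog := mkP g42
noncomputable def p43 : Prog := mkP g43
noncomputable def p44 : Prog := mkP g44
noncomputable def p45 : Prog := mkP g45
noncomputable def p46 : Prog := mkP g46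
noncomputable def p47 : Prog := mkP g47
noncomputable def p48 : Prog := mkP g48
noncomputable def p49 : Prog := mkP g49
noncomputable def p50 : Prog := mkP g50
noncomputable def p51 : Prog := mkP g51
noncomputable def p52 : Prog := mkP g52
noncomputable def p53 : Prog := mkP g53
noncomputable def p54 : Prog := mkP g54
noncomputable def p55 : Prog := mkP g55
noncomputable def p56 : Prog := mkP g56
noncomputable def p57 : Prog := mkP g57
noncomputable def p58 : Prog := mkP g58
noncomputable def p59 : Prog := mkP g59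
noncomputable def p60 : Prog := mkP g60
noncomputable def p61 : Prog := mkP g61
noncomputable def p62 : Prog := mkP g62
noncomputable def p63 : Prog := mkP g63
noncomputable def p64 : Prog := mkP g64
noncomputable def p65 : Prog := mkP g65
noncomputable def p66 : Prog := mkP g66
noncomputable def p67 : Prog := mkP g67
noncomputable def p68 : Prog := mkP g68

/-- program, exponent, images and signs -/
structure Ent where
  P : Prog
  e : ℕ
  ys : List ℕ
  ss : ℕ
noncomputable def ent (P : Prog) (g : Gen) : Ent := ⟨P, g.e, g.ys, g.ss⟩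
/-- 0-23 basis of `Q`, 24 the centre, 25-35 sign changes, 36-51 permutations, 52-67 their inverses, 68 `ξ` -/
noncomputable def GT : List Ent := [ent (mkP (qG 0)) (qG 0), ent (mkP (qG 1)) (qG 1), ent (mkP (qG 2)) (qG 2), ent (mkP (qG 3)) (qG 3), ent (mkP (qG 4)) (qG 4), ent (mkP (qG 5)) (qG 5), ent (mkP (qG 6)) (qG 6), ent (mkP (qG 7)) (qG 7), ent (mkP (qG 8)) (qG 8), ent (mkP (qG 9)) (qG 9), ent (mkP (qG 10)) (qG 10), ent (mkP (qG 11)) (qG 11), ent (mkP (qG 12)) (qG 12), ent (mkP (qG 13)) (qG 13), ent (mkP (qG 14)) (qG 14), ent (mkP (qG 15)) (qG 15), ent (mkP (qG 16)) (qG 16), ent (mkP (qG 17)) (qG 17), ent (mkP (qG 18)) (qG 18), ent (mkP (qG 19)) (qG 19), ent (mkP (qG 20)) (qG 20), ent (mkP (qG 21)) (qG 21), ent (mkP (qG 22)) (qG 22), ent (mkP (qG 23)) (qG 23), ent (mkP zG) zG, ent p25 g25, ent p26 g26, ent p27 g27, ent p28 g28, ent p29 g29, ent p30 g30, ent p31 g31, ent p32 g32, ent p33 g33, ent p34 g34, ent p35 g35, ent p36 g36, ent p37 g37, ent p38 g38, ent p39 g39, ent p40 g40, ent p41 g41, ent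 p42 g42, ent p43 g43, ent p44 g44, ent p45 g45, ent p46 g46, ent p47 g47, ent p48 g48, ent p49 g49, ent p50 g50, ent p51 g51, ent p52 g52, ent p53 g53, ent p54 g54, ent p55 g55, ent p56 g56, ent p57 g57, ent p58 g58, ent p59 g59, ent p60 g60, ent p61 g61, ent p62 g62, ent p63 g63, ent p64 g64, ent p65 g65, ent p66 g66, ent p67 g67, ent p68 g68]
noncomputable def gt (i : ℕ) : Ent := GT.getD i ⟨[], 0, [], 0⟩

theorem exists_gt {i : ℕ} (h : 24 < i) (h' : i < 69) :
    ∃ p : Ht, Impl (rho p) (gt i).P (gt i).e ∧ Tr p (gt i).ys (gt i).ss := by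
  interval_cases i
  exacts [Gen.spec g25_ok, Gen.spec g26_ok, Gen.spec g27_ok, Gen.spec g28_ok, Gen.spec g29_ok, Gen.spec g30_ok, Gen.spec g31_ok, Gen.spec g32_ok, Gen.spec g33_ok, Gen.spec g34_ok, Gen.spec g35_ok, Gen.spec g36_ok, Gen.spec g37_ok, Gen.spec g38_ok, Gen.spec g39_ok, Gen.spec g40_ok, Gen.spec g41_ok, Gen.spec g42_ok, Gen.spec g43_ok, Gen.spec g44_ok, Gen.spec g45_ok, Gen.spec g46_ok, Gen.spec g47_ok, Gen.spec g48_ok, Gen.spec g49_ok, Gen.spec g50_ok, Gen.spec g51_ok, Gen.spec g52_ok, Gen.spec g53_ok, Gen.spec g54_ok, Gen.spec g55_ok, Gen.spec g56_ok, Gen.spec g57_ok, Gen.spec g58_ok, Gen.spec g59_ok, Gen.spec g60_ok, Gen.spec g61_ok, Gen.spec g62_ok, Gen.spec g63_ok, Gen.spec g64_ok, Gen.spec g65_ok, Gen.spec g66_ok, Gen.spec g67_ok, Gen.spec g68_ok]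

theorem exists_hT : ∃ hT : ℕ → Ht, (∀ i < 69, Impl (rho (hT i)) (gt i).P (gt i).e ∧
    Tr (hT i) (gt i).ys (gt i).ss) ∧ (∀ k < 24, hT k = qe (ug k) false) ∧ hT 24 = qe 0 true := by
  have h1 : ∀ k < 24, gt k = ent (mkP (qG k)) (qG k) := fun k hk => by interval_cases k <;> rfl
  have h2 : ∀ i, ∃ p : Ht, (i < 69 → Impl (rho p) (gt i).P (gt i).e ∧ Tr p (gt i).ys (gt i).ss) ∧
      (i < 24 → p = qe (ug i) false) ∧ (i = 24 → p = qe 0 true) := fun i => by
    rcases lt_trichotomy i 24 with h | rfl | h
    · refine ⟨_, fun _ => ?_, fun _ => rfl, by omega⟩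
      rw [h1 i h]
      exact Gen.specQ (allLt_iff.1 qG_ok i h) rfl rfl
        (by rw [cl_ug h]; exact congrArg (PPg · false) (Nat.one_shiftLeft i)) rfl
    · exact ⟨_, fun _ => Gen.specQ zG_ok rfl rfl (by rw [cl_zero]; rfl) rfl, by omega, fun _ => rfl⟩
    · by_cases h' : i < 69
      · obtain ⟨p, hp⟩ := exists_gt h h'
        exact ⟨p, fun _ => hp, by omega, by omega⟩
      · exact ⟨1, fun h => absurd h h', by omega, by omega⟩
  choose f hf using h2
  exact ⟨f, fun i => (hf i).1, fun k => (hf k).2.1, (hf 24).2.2 rfl⟩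
noncomputable def hT : ℕ → Ht := exists_hT.choose
theorem hT_impl {i : ℕ} (h : i < 69) : Impl (rho (hT i)) (gt i).P (gt i).e := (exists_hT.choose_spec.1 i h).1
theorem hT_tr {i : ℕ} (h : i < 69) : Tr (hT i) (gt i).ys (gt i).ss := (exists_hT.choose_spec.1 i h).2
theorem hT_q {k : ℕ} (h : k < 24) : rho (hT k) = xq (ug k) false :=
  congrArg rho (exists_hT.choose_spec.2.1 k h)
theorem hT_z : rho (hT 24) = zz := congrArg rho exists_hT.choose_spec.2.2

/-- words: the first letter acts first -/
noncomputable def wd : List ℕ → Ht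
  | [] => 1
  | a :: w => wd w * hT a
def okW (w : List ℕ) : Bool := List.rec true (fun a _ ih => and (Nat.ble a 68) ih) w
noncomputable def appW (w : List ℕ) : List ℕ → List ℕ :=
  List.rec (fun S => S) (fun a _ ih S => ih (app (gt a).P (gt a).e S)) w
noncomputable def imgW (w : List ℕ) : List ℕ → List ℕ :=
  List.rec (fun S => S) (fun a _ ih S => ih (imgS (gt a).ys (gt a).ss S)) w
/-- the concatenated program and its exponent -/
noncomputable def wP (w : List ℕ) : Prog := List.rec [] (fun a _ ih => (gt a).P ++ ih) w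
noncomputable def wE (w : List ℕ) : ℕ := List.rec 0 (fun a _ ih => (gt a).e + ih) w

theorem wd_append (w w' : List ℕ) : wd (w ++ w') = wd w' * wd w := by
  induction w with
  | nil => exact (mul_one _).symm
  | cons a w ih => rw [List.cons_append, wd, ih, wd, mul_assoc]
theorem okW_cons {a : ℕ} {w : List ℕ} : okW (a :: w) = true ↔ a < 69 ∧ okW w = true :=
  Bool.and_eq_true_iff.trans (and_congr_left' (Nat.ble_eq.to_iff.trans Nat.lt_succ_iff.symm))
theorem impl_wd {w : List ℕ} (h : okW w = true) : Impl (rho (wd w)) (wP w) (wE w) := by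
  induction w with
  | nil => rw [wd, map_one]; exact Impl.one
  | cons a w ih =>
    rw [wd, map_mul]
    exact (ih (okW_cons.1 h).2).mul (hT_impl (okW_cons.1 h).1)
theorem Rp.appW {w : List ℕ} (h : okW w = true) {S : List ℕ} {v : VV} (r : Rp S v) :
    Rp (Mo.appW w S) (rho (wd w) • v) := by
  induction w generalizing S v with
  | nil => rwa [wd, map_one, one_smul]
  | cons a w ih =>
    rw [wd, map_mul, mul_smul]
    exact ih (okW_cons.1 h).2 ((hT_impl (okW_cons.1 h).1).app r)
theorem Cj.one (x : Λ) (e : Bool) : Cj 1 x e ((1 : Ht).1.1 • x) e :=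
  ⟨rfl, by simp⟩
theorem Cj.mul {h k : Ht} {x y z : Λ} {e f g : Bool} (c : Cj h x e y f) (d : Cj k y f z g) :
    Cj (k * h) x e z g :=
  ⟨d.1.trans ((cl_smul _ c.1).trans (congrArg cl (mul_smul _ _ _).symm)), by
    rw [← d.2, ← c.2]
    simp only [Subgroup.coe_mul, Prod.snd_mul, Submonoid.coe_mul, Matrix.transpose_mul, Matrix.mul_assoc]⟩
theorem imgW_spec {w : List ℕ} (h : okW w = true) {S : List ℕ} (hS : S.length = 25) :
    (imgW w S).length = 25 ∧ ∀ (p : ℕ) (x : Λ), cl x = vn S.tail p →
      cl ((wd w).1.1 • x) = vn (imgW w S).tail p ∧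
      Cj (wd w) x ((S.headD 0).testBit p) ((wd w).1.1 • x) (((imgW w S).headD 0).testBit p) := by
  induction w generalizing S with
  | nil => exact ⟨hS, fun p x hx => ⟨(congrArg cl (one_smul _ x)).trans hx, Cj.one _ _⟩⟩
  | cons a w ih =>
    obtain ⟨a1, a2⟩ := imgS_spec (hT_tr (okW_cons.1 h).1) hS
    obtain ⟨b1, b2⟩ := ih (okW_cons.1 h).2 a1
    refine ⟨b1, fun p x hx => ?_⟩
    obtain ⟨a3, a4⟩ := a2 p x hx
    obtain ⟨b3, b4⟩ := b2 p _ a3
    rw [← mul_smul] at b3 b4
    exact ⟨b3, a4.mul b4⟩
/-- the class state of the 24 basis classes -/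
def S0 : List ℕ := 0 :: (List.range 24).map (2 ^ ·)
def cols (S : List ℕ) : List ℕ := (List.range 24).map (vn S.tail)
theorem tr_wd {w : List ℕ} (h : okW w = true) : Tr (wd w) (cols (imgW w S0)) ((imgW w S0).headD 0) := by
  refine ⟨by simp [cols], fun k hk => ?_⟩
  have e : ∀ k < 24, vn S0.tail k = 2 ^ k := by decide +kernel
  obtain ⟨a1, a2⟩ := (imgW_spec h (S := S0) rfl).2 k (ug k) ((cl_ug hk).trans (e k hk).symm)
  have e1 : (cols (imgW w S0)).getD k 0 = vn (imgW w S0).tail k := by simp [cols, hk]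
  rw [e1, ← a1]
  refine ⟨rfl, ?_⟩
  have := a2.2
  rwa [show (S0.headD 0).testBit k = false from Nat.zero_testBit k, sgn_false, one_smul, PL,
    cl_ug hk] at this

end Cfsg.Agent.Mo
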